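import Mathlib
import Cfsg.Agent.CharactersDeep.BrauerLocal
import Cfsg.Agent.Blocks.OrbitSum
import Cfsg.Agent.H686.CharKit
import Cfsg.Agent.Characters.GaloisBasic

/-!
# Congruences for sums of character values over `p`-elements

`z` an element of prime order `r`, `s` an integral class function supported on elements of order
prime to `r`, `χ` an irreducible character of degree prime to `r` with `χ (z * v) = χ z` for all
`v` in the support of `s` commuting with `z`.  If `∑ s g χ g = lam * χ 1` with an integer `lam`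
then `lam` is congruent modulo `r` to the sum of `s` over the centralizer of `z` (`congr`), hence
also to the sum of `s` over `G` (`congr'`).
-/

set_option autoImplicit false

namespace Cfsg.Agent.H732.VZ

open Cfsg Cfsg.Agent.Characters Cfsg.Agent.CharactersDeep Finset

universe u

variable {G : Type u} [Group G]

/-- The values of an irreducible character as algebraic integers. -/
noncomputable def av [Finite G] (χ : IrrCharacter G) (g : G) : AlgInt :=
  ⟨(χ : G → ℂ) g, GaloisBasic.isIntegral_apply (Core.isIrr_isCharacter χ.2) g⟩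

@[simp] theorem av_coe [Finite G] (χ : IrrCharacter G) (g : G) :
    ((av χ g : AlgInt) : ℂ) = (χ : G → ℂ) g := rfl

/-- `χ (z v) ≡ χ v` modulo every prime over `r` if `z` has order `r` and commutes with `v`. -/
theorem av_mul_sub_mem [Finite G] {r : ℕ} (hr : r.Prime) {M : Ideal AlgInt} (hM : M.IsPrime)
    (hrM : (r : AlgInt) ∈ M) (χ : IrrCharacter G) {z v : G} (hz : orderOf z = r)
    (hzv : Commute z v) (hv : ¬ r ∣ orderOf v) : av χ (z * v) - av χ v ∈ M := by
  have hcop : Nat.Coprime r (orderOf v) := (Nat.Prime.coprime_iff_not_dvd hr).2 hv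
  obtain ⟨j, hj1, hj2⟩ := Nat.chineseRemainder hcop 0 1
  have hzj : z ^ j = 1 := by
    rw [← orderOf_dvd_iff_pow_eq_one, hz]
    exact (Nat.modEq_zero_iff_dvd).1 hj1
  have hvj : v ^ j = v := by
    conv_rhs => rw [← pow_one v]
    exact pow_eq_pow_iff_modEq.2 hj2
  have hj : (z * v) ^ j = v := by rw [hzv.mul_pow, hzj, hvj, one_mul]
  have hpow : ((z * v) ^ j) ^ (r ^ 1) = (z * v) ^ (r ^ 1) := by
    rw [hj, pow_one, hzv.mul_pow, ← hz, pow_orderOf_eq_one, one_mul]
  obtain ⟨m, hm, hmv⟩ := BrauerLocal.congr_of_mem_achar hr hM hrM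
    (AChar.mem_achar_of_isCharacter (Core.isIrr_isCharacter χ.2)) (z * v) hpow
  rw [hj] at hmv
  have : av χ (z * v) - av χ v = m := by
    apply Subtype.ext
    rw [hmv]
    rfl
  rw [this]
  exact hm

theorem int_mem_iff {r : ℕ} (hr : r.Prime) {M : Ideal AlgInt} (hM : M.IsPrime)
    (hrM : (r : AlgInt) ∈ M) (n : ℤ) : (n : AlgInt) ∈ M ↔ (r : ℤ) ∣ n := by
  constructor
  · intro h
    by_contra h1
    exact BrauerLocal.not_mem_of_coprime hM hrM
      ((Prime.coprime_iff_not_dvd (Nat.prime_iff_prime_int.1 hr)).2 h1).symm h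
  · rintro ⟨k, rfl⟩
    push_cast
    exact Ideal.mul_mem_right _ _ hrM

variable [Fintype G]

/-- Sums over `G` of an integral class function and over the centralizer of an element of
prime order `r`. -/
theorem sum_modEq {r : ℕ} (hr : r.Prime) {z : G} (hz : orderOf z = r) (s : G → ℤ)
    (hs : ∀ g x : G, s (g * x * g⁻¹) = s x) [DecidablePred (Commute z)] :
    ∑ g, s g ≡ ∑ g ∈ univ.filter (Commute z), s g [ZMOD r] := by
  classical
  have : Fact r.Prime := ⟨hr⟩
  have hP : IsPGroup r (Subgroup.zpowers z) := IsPGroup.of_card (n := 1) (by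
    rw [Nat.card_zpowers, hz, pow_one])
  obtain ⟨a, ha⟩ := Cfsg.Agent.Blocks.OrbitSum.sum_eq_sum_centralizer_add_smul (p := r)
    (Subgroup.zpowers z) hP s (fun u _ x => hs u x)
  have hfil : univ.filter (· ∈ Subgroup.centralizer ((Subgroup.zpowers z : Subgroup G) : Set G))
      = univ.filter (Commute z) := by
    ext x
    simp only [mem_filter, mem_univ, true_and]
    rw [Subgroup.zpowers_eq_closure, Subgroup.centralizer_closure,
      Subgroup.mem_centralizer_singleton_iff]
    exact ⟨fun h => h.symm, fun h => h.symm⟩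
  rw [hfil] at ha
  rw [ha, nsmul_eq_mul]
  exact (Int.modEq_iff_dvd.2 ⟨-a, by ring⟩)

/-- **The congruence.** -/
theorem congr {r : ℕ} (hr : r.Prime) {z : G} (hz : orderOf z = r) (s : G → ℤ)
    (hs : ∀ g x : G, s (g * x * g⁻¹) = s x) (hsr : ∀ x, s x ≠ 0 → ¬ r ∣ orderOf x)
    (χ : IrrCharacter G) {lam : ℤ}
    (hlam : ∑ g, (s g : ℂ) * (χ : G → ℂ) g = lam * (χ : G → ℂ) 1)
    (hK : ∀ v, Commute z v → s v ≠ 0 → (χ : G → ℂ) (z * v) = (χ : G → ℂ) z)
    (hdeg : ¬ r ∣ charDegree (χ : G → ℂ)) [DecidablePred (Commute z)] :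
    lam ≡ ∑ g ∈ univ.filter (Commute z), s g [ZMOD r] := by
  classical
  have : Fact r.Prime := ⟨hr⟩
  obtain ⟨M, hM', hrM⟩ := BrauerLocal.exists_maximal r hr
  have hM : M.IsPrime := hM'.isPrime
  have hP : IsPGroup r (Subgroup.zpowers z) := IsPGroup.of_card (n := 1) (by
    rw [Nat.card_zpowers, hz, pow_one])
  obtain ⟨a, ha⟩ := Cfsg.Agent.Blocks.OrbitSum.sum_eq_sum_centralizer_add_smul (p := r)
    (Subgroup.zpowers z) hP (fun g => (s g : AlgInt) * av χ g) (fun u _ x => by
      rw [hs u x]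
      congr 1
      exact Subtype.ext (Core.isIrr_isClassFunction χ.2 x u))
  have hfil : univ.filter (· ∈ Subgroup.centralizer ((Subgroup.zpowers z : Subgroup G) : Set G))
      = univ.filter (Commute z) := by
    ext x
    simp only [mem_filter, mem_univ, true_and]
    rw [Subgroup.zpowers_eq_closure, Subgroup.centralizer_closure,
      Subgroup.mem_centralizer_singleton_iff]
    exact ⟨fun h => h.symm, fun h => h.symm⟩
  rw [hfil] at ha
  have h0 : ∑ g, (s g : AlgInt) * av χ g = (lam : AlgInt) * av χ 1 := by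
    apply Subtype.ext
    push_cast
    exact hlam
  -- `χ z ≡ χ 1`
  have hz1 : av χ z - av χ 1 ∈ M := by
    have := av_mul_sub_mem hr hM hrM χ hz (Commute.one_right z) (by
      rw [orderOf_one]
      exact fun h => hr.one_lt.ne' (Nat.dvd_one.1 h))
    rwa [mul_one] at this
  -- termwise congruence
  have hterm : ∀ g ∈ univ.filter (Commute z),
      (s g : AlgInt) * av χ g - (s g : AlgInt) * av χ 1 ∈ M := by
    intro g hg
    have hg' : Commute z g := (mem_filter.1 hg).2
    by_cases h : s g = 0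
    · simp [h]
    have h1 := av_mul_sub_mem hr hM hrM χ hz hg' (hsr g h)
    have h2 : av χ (z * g) = av χ z := Subtype.ext (hK g hg' h)
    rw [h2] at h1
    have h3 : av χ g - av χ 1 ∈ M := by
      have := M.sub_mem hz1 h1
      rwa [sub_sub_sub_cancel_left] at this
    rw [← mul_sub]
    exact M.mul_mem_left _ h3
  have hsum : (∑ g ∈ univ.filter (Commute z), (s g : AlgInt) * av χ g)
      - (∑ g ∈ univ.filter (Commute z), (s g : AlgInt)) * av χ 1 ∈ M := by
    rw [Finset.sum_mul, ← Finset.sum_sub_distrib]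
    exact M.sum_mem hterm
  have hfin : ((lam : AlgInt) - ∑ g ∈ univ.filter (Commute z), (s g : AlgInt)) * av χ 1 ∈ M := by
    rw [sub_mul, ← h0, ha]
    have : (∑ g ∈ univ.filter (Commute z), (s g : AlgInt) * av χ g) + r • a
        - (∑ g ∈ univ.filter (Commute z), (s g : AlgInt)) * av χ 1
        = ((∑ g ∈ univ.filter (Commute z), (s g : AlgInt) * av χ g)
          - (∑ g ∈ univ.filter (Commute z), (s g : AlgInt)) * av χ 1) + (r : AlgInt) * a := by
      rw [nsmul_eq_mul]; ring
    rw [this]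
    exact M.add_mem hsum (M.mul_mem_right _ hrM)
  have hdegM : av χ 1 ∉ M := by
    have h1 : av χ 1 = ((charDegree (χ : G → ℂ) : ℤ) : AlgInt) := by
      apply Subtype.ext
      push_cast
      exact (Cfsg.Agent.H686.CharKit.charDegree_irr χ).symm
    rw [h1, int_mem_iff hr hM hrM]
    intro h
    exact hdeg (by exact_mod_cast h)
  have hlast := (hM.mem_or_mem hfin).resolve_right hdegM
  have hcast : (lam : AlgInt) - ∑ g ∈ univ.filter (Commute z), (s g : AlgInt)
      = ((lam - ∑ g ∈ univ.filter (Commute z), s g : ℤ) : AlgInt) := by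
    push_cast
    rfl
  rw [hcast, int_mem_iff hr hM hrM] at hlast
  exact (Int.modEq_iff_dvd.2 hlast).symm

/-- The congruence modulo the sum over the whole group. -/
theorem congr' {r : ℕ} (hr : r.Prime) {z : G} (hz : orderOf z = r) (s : G → ℤ)
    (hs : ∀ g x : G, s (g * x * g⁻¹) = s x) (hsr : ∀ x, s x ≠ 0 → ¬ r ∣ orderOf x)
    (χ : IrrCharacter G) {lam : ℤ}
    (hlam : ∑ g, (s g : ℂ) * (χ : G → ℂ) g = lam * (χ : G → ℂ) 1)
    (hK : ∀ v, Commute z v → s v ≠ 0 → (χ : G → ℂ) (z * v) = (χ : G → ℂ) z)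
    (hdeg : ¬ r ∣ charDegree (χ : G → ℂ)) : lam ≡ ∑ g, s g [ZMOD r] := by
  classical
  exact (congr hr hz s hs hsr χ hlam hK hdeg).trans (sum_modEq hr hz s hs).symm

end Cfsg.Agent.H732.VZ
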