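import Mathlib
import Cfsg.Agent.H695.OneZero.Base
import Cfsg.Agent.Characters.CentralCharacter
import Cfsg.Agent.H732.VZ.Congr

/-!
# One vanishing class: primes dividing the degree

`One χ x`: the irreducible character `χ` vanishes exactly on the class of `x`.
`not_dvd`: `z` of prime order `r` such that for `y ∈ C_G(z)` of order divisible by `r`: `z` is a
power of `y` and `r` does not divide `|G : C_G(y)|`.  If `r` divides the degree of `χ` then
`C_G(z) = ⟨z⟩` and `z` is conjugate to all its powers of order `r`.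
-/

set_option autoImplicit false

namespace Cfsg.Agent.H732.VZ

open Cfsg Cfsg.Agent.Characters Cfsg.Agent.H686.CharKit Finset
open scoped ComplexConjugate

universe u

variable {G : Type u} [Group G]

/-- `χ` vanishes exactly on the conjugacy class of `x`. -/
structure One (χ : IrrCharacter G) (x : G) : Prop where
  zero : (χ : G → ℂ) x = 0
  uniq : ∀ g, (χ : G → ℂ) g = 0 → IsConj x g

theorem exists_one (χ : IrrCharacter G)
    (hχ : Nat.card {C : ConjClasses G // ∃ g ∈ C.carrier, (χ : G → ℂ) g = 0} = 1) :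
    ∃ x, One χ x := by
  obtain ⟨h1, ⟨C, hC⟩⟩ := Nat.card_eq_one_iff_unique.1 hχ
  obtain ⟨x, hx, hx0⟩ := hC
  refine ⟨x, hx0, fun g hg => ?_⟩
  have h2 := h1.elim ⟨ConjClasses.mk x, x, ConjClasses.mem_carrier_mk, hx0⟩
    ⟨ConjClasses.mk g, g, ConjClasses.mem_carrier_mk, hg⟩
  have h3 : ConjClasses.mk x = ConjClasses.mk g := congrArg Subtype.val h2
  exact ConjClasses.mk_eq_mk_iff_isConj.1 h3

section Excess

variable [Fintype G]

/-- The mean of the squared absolute values of the conjugates of a nonzero character value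
divisible by `r`. -/
theorem le_sum_norm_sq_mul (χ : IrrCharacter G) {g : G} (hg : (χ : G → ℂ) g ≠ 0)
    [NeZero (Nat.card G)] {r : ℕ} (hr : 0 < r)
    (hint : ∀ m : ℕ, m.Coprime (Nat.card G) → IsIntegral ℤ ((χ : G → ℂ) (g ^ m) / r)) :
    (Fintype.card (ZMod (Nat.card G))ˣ : ℝ) * r ^ 2
      ≤ ∑ m : (ZMod (Nat.card G))ˣ, Complex.normSq ((χ : G → ℂ) (g ^ (m : ZMod (Nat.card G)).val)) := by
  classical
  have hrC : (r : ℂ) ≠ 0 := by exact_mod_cast hr.ne'
  have hrR : (0 : ℝ) < r := by exact_mod_cast hr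
  have hχ := Core.isIrr_isCharacter χ.2
  set f : (ZMod (Nat.card G))ˣ → ℂ := fun m =>
    (χ : G → ℂ) (g ^ (m : ZMod (Nat.card G)).val) / r with hf
  set P : ℂ := ∏ m : (ZMod (Nat.card G))ˣ, f m with hP
  have hne : ∀ m : (ZMod (Nat.card G))ˣ, (χ : G → ℂ) (g ^ (m : ZMod (Nat.card G)).val) ≠ 0 := by
    intro m
    obtain ⟨σ, hσ⟩ := GaloisBasic.exists_ringEquiv_of_coprime (G := G)
      (m := (m : ZMod (Nat.card G)).val) (ZMod.val_coe_unit_coprime m)
    rw [← hσ _ hχ g]
    intro h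
    exact hg (by simpa using h)
  have hfne : ∀ m, f m ≠ 0 := fun m => div_ne_zero (hne m) hrC
  have hP0 : P ≠ 0 := Finset.prod_ne_zero_iff.mpr fun m _ => hfne m
  have hPint : IsIntegral ℤ P :=
    IsIntegral.prod _ fun m _ => hint _ (ZMod.val_coe_unit_coprime m)
  have hfix : ∀ σ : ℂ ≃+* ℂ, σ P = P := by
    intro σ
    obtain ⟨k, hk, hσ⟩ := GaloisBasic.exists_pow_of_ringEquiv (G := G) σ
    rw [hP, map_prod]
    conv_rhs => rw [← Equiv.prod_comp (Equiv.mulRight (ZMod.unitOfCoprime k hk))]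
    refine Finset.prod_congr rfl fun m _ => ?_
    simp only [hf]
    rw [map_div₀, map_natCast, hσ _ hχ]
    rw [Equiv.coe_mulRight, ← H598.NoZero.pow_unit_mul g pow_card_eq_one' m k hk, ← pow_mul,
      ← pow_mul, mul_comm]
  obtain ⟨q, hq⟩ := GaloisBasic.exists_rat_of_forall_ringEquiv hPint.tower_top hfix
  obtain ⟨k, hk⟩ := GaloisBasic.exists_int_of_isIntegral hPint ⟨q, hq⟩
  have hk0 : k ≠ 0 := by
    rintro rfl
    exact hP0 (by rw [hk]; simp)
  have hPnorm : 1 ≤ Complex.normSq P := by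
    rw [hk, Complex.normSq_intCast]
    have : (1 : ℤ) ≤ k * k := by
      rcases lt_or_gt_of_ne hk0 with h | h <;> nlinarith
    exact_mod_cast this
  have hpos : ∀ m : (ZMod (Nat.card G))ˣ, 0 < Complex.normSq (f m) := fun m =>
    Complex.normSq_pos.2 (hfne m)
  have h1 : ∑ m : (ZMod (Nat.card G))ˣ, (Real.log (Complex.normSq (f m)) + 1)
      ≤ ∑ m : (ZMod (Nat.card G))ˣ, Complex.normSq (f m) := by
    refine Finset.sum_le_sum fun m _ => ?_
    have := Real.log_le_sub_one_of_pos (hpos m)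
    linarith
  have h2 : 0 ≤ ∑ m : (ZMod (Nat.card G))ˣ, Real.log (Complex.normSq (f m)) := by
    rw [← Real.log_prod (fun m _ => (hpos m).ne'), ← map_prod]
    exact Real.log_nonneg hPnorm
  rw [Finset.sum_add_distrib, Finset.sum_const, nsmul_eq_mul, mul_one, Finset.card_univ] at h1
  have h3 : (Fintype.card (ZMod (Nat.card G))ˣ : ℝ) ≤ ∑ m : (ZMod (Nat.card G))ˣ,
      Complex.normSq (f m) := by linarith
  have h4 : ∀ m : (ZMod (Nat.card G))ˣ,
      Complex.normSq ((χ : G → ℂ) (g ^ (m : ZMod (Nat.card G)).val))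
      = Complex.normSq (f m) * r ^ 2 := by
    intro m
    simp only [hf]
    rw [map_div₀, Complex.normSq_natCast]
    field_simp
  rw [Finset.sum_congr rfl fun m _ => h4 m, ← Finset.sum_mul]
  exact mul_le_mul_of_nonneg_right h3 (by positivity)

variable [DecidableEq G]

/-- An irreducible character with nonzero values divisible by `r` on a Galois-stable set. -/
theorem card_mul_le (χ : IrrCharacter G) {Y : Finset G} (hY : H695.OneZero.Gal Y)
    (h0 : ∀ g ∈ Y, (χ : G → ℂ) g ≠ 0) {r : ℕ} (hr : 0 < r)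
    (hint : ∀ g ∈ Y, IsIntegral ℤ ((χ : G → ℂ) g / r)) :
    (Y.card : ℝ) * r ^ 2 ≤ ∑ g ∈ Y, Complex.normSq ((χ : G → ℂ) g) := by
  have : NeZero (Nat.card G) := ⟨Nat.card_pos.ne'⟩
  have h1 : ∀ g ∈ Y, (Fintype.card (ZMod (Nat.card G))ˣ : ℝ) * r ^ 2
      ≤ ∑ m : (ZMod (Nat.card G))ˣ,
        Complex.normSq ((χ : G → ℂ) (g ^ (m : ZMod (Nat.card G)).val)) := fun g hg =>
    le_sum_norm_sq_mul χ (h0 g hg) hr fun m hm => hint _ (hY g hg m hm)
  have h2 := Finset.sum_le_sum h1
  rw [Finset.sum_const, nsmul_eq_mul, Finset.sum_comm] at h2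
  rw [Finset.sum_congr rfl fun (m : (ZMod (Nat.card G))ˣ) _ =>
    hY.sum_pow (ZMod.val_coe_unit_coprime m) fun g => Complex.normSq ((χ : G → ℂ) g),
    Finset.sum_const, nsmul_eq_mul, Finset.card_univ] at h2
  have hpos : (0 : ℝ) < Fintype.card (ZMod (Nat.card G))ˣ := by exact_mod_cast Fintype.card_pos
  have h3 : (Fintype.card (ZMod (Nat.card G))ˣ : ℝ) * ((Y.card : ℝ) * r ^ 2)
      ≤ (Fintype.card (ZMod (Nat.card G))ˣ : ℝ) * ∑ g ∈ Y, Complex.normSq ((χ : G → ℂ) g) := by
    refine le_trans (le_of_eq ?_) h2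
    ring
  exact le_of_mul_le_mul_left h3 hpos

/-- Excess inequality: `(r² - 1) |Y| ≤ #zeros` for a Galois-stable set `Y` of elements at which the
values are nonzero and divisible by `r`. -/
theorem excess (χ : IrrCharacter G) {Y : Finset G} (hY : H695.OneZero.Gal Y)
    (h0 : ∀ g ∈ Y, (χ : G → ℂ) g ≠ 0) {r : ℕ} (hr : 0 < r)
    (hint : ∀ g ∈ Y, IsIntegral ℤ ((χ : G → ℂ) g / r)) :
    Y.card * r ^ 2 ≤ Y.card + (univ.filter fun g : G => (χ : G → ℂ) g = 0).card := by
  have h1 := card_mul_le χ hY h0 hr hint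
  have h2 := H695.OneZero.sum_le χ hY h0
  exact_mod_cast h1.trans h2

end Excess

/-- The values at elements with centralizer of index prime to `r` are divisible by `r` if `r`
divides the degree. -/
theorem isIntegral_div [Finite G] (χ : IrrCharacter G) {r : ℕ} (hr : r.Prime)
    (hdeg : r ∣ charDegree (χ : G → ℂ)) {g : G}
    (hg : ¬ r ∣ (Subgroup.centralizer ({g} : Set G)).index) :
    IsIntegral ℤ ((χ : G → ℂ) g / r) := by
  have hrC : (r : ℂ) ≠ 0 := by exact_mod_cast hr.ne_zero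
  obtain ⟨d, hd⟩ := hdeg
  have hd0 : (d : ℂ) ≠ 0 := by
    have := charDegree_pos χ
    rw [hd] at this
    have : d ≠ 0 := by rintro rfl; simp at this
    exact_mod_cast this
  have h1 : IsIntegral ℤ (((Subgroup.centralizer ({g} : Set G)).index : ℂ) * (χ : G → ℂ) g
      / (χ : G → ℂ) 1) := by
    obtain ⟨n, ρ, hρ, hχ⟩ := χ.2
    have := CentralCharacter.isIntegral_index_mul_character_div ρ g
    have hfin : (Module.finrank ℂ (Fin n → ℂ) : ℂ) = (χ : G → ℂ) 1 := by
      rw [← hχ, Representation.char_one]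
    rw [hfin, hχ] at this
    exact this
  have h2 : IsIntegral ℤ (((Subgroup.centralizer ({g} : Set G)).index : ℂ)
      * ((χ : G → ℂ) g / r)) := by
    have h3 : ((Subgroup.centralizer ({g} : Set G)).index : ℂ) * ((χ : G → ℂ) g / r)
        = (d : ℂ) * (((Subgroup.centralizer ({g} : Set G)).index : ℂ) * (χ : G → ℂ) g
          / (χ : G → ℂ) 1) := by
      rw [← charDegree_irr χ, hd]
      push_cast
      field_simp
    rw [h3]
    have hdI : IsIntegral ℤ (d : ℂ) := by
      simpa using isIntegral_algebraMap (R := ℤ) (A := ℂ) (x := (d : ℤ))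
    exact hdI.mul h1
  have h4 : IsIntegral ℤ ((r : ℂ) * ((χ : G → ℂ) g / r)) := by
    rw [mul_div_cancel₀ _ hrC]
    exact GaloisBasic.isIntegral_apply (Core.isIrr_isCharacter χ.2) g
  have hcop : IsCoprime ((Subgroup.centralizer ({g} : Set G)).index : ℤ) (r : ℤ) :=
    Nat.isCoprime_iff_coprime.2 ((Nat.Prime.coprime_iff_not_dvd hr).2 hg).symm
  obtain ⟨a, b, hab⟩ := hcop
  have habC : (a : ℂ) * ((Subgroup.centralizer ({g} : Set G)).index : ℂ) + b * r = 1 := by
    exact_mod_cast hab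
  have hI : ∀ a : ℤ, IsIntegral ℤ (a : ℂ) := fun a => by
    simpa using isIntegral_algebraMap (R := ℤ) (A := ℂ) (x := a)
  have h5 : (χ : G → ℂ) g / r = a * (((Subgroup.centralizer ({g} : Set G)).index : ℂ)
      * ((χ : G → ℂ) g / r)) + b * ((r : ℂ) * ((χ : G → ℂ) g / r)) := by
    linear_combination (-((χ : G → ℂ) g / r)) * habC
  rw [h5]
  exact ((hI a).mul h2).add ((hI b).mul h4)

/-- The class of `x` as a finset. -/
theorem card_zeros [Fintype G] {χ : IrrCharacter G} {x : G} (h : One χ x)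
    [DecidablePred fun g : G => (χ : G → ℂ) g = 0] :
    (univ.filter fun g : G => (χ : G → ℂ) g = 0).card
      * Nat.card (Subgroup.centralizer ({x} : Set G)) = Nat.card G := by
  have h1 : (univ.filter fun g : G => (χ : G → ℂ) g = 0).card
      = Nat.card {y : G // IsConj x y} := by
    rw [← Fintype.card_subtype, ← Nat.card_eq_fintype_card]
    refine Nat.card_congr (Equiv.subtypeEquivRight fun g => ⟨fun hg => h.uniq g hg, fun hg => ?_⟩)
    obtain ⟨c, rfl⟩ := isConj_iff.1 hg
    rw [Core.isIrr_isClassFunction χ.2 x c]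
    exact h.zero
  rw [h1, ← CentralCharacter.index_centralizer_eq_card, mul_comm, Subgroup.card_mul_index]

/-- Galois conjugates of the vanishing element are conjugate to it. -/
theorem One.conj_pow [Finite G] {χ : IrrCharacter G} {x : G} (h : One χ x) {m : ℕ}
    (hm : m.Coprime (Nat.card G)) : IsConj x (x ^ m) := by
  obtain ⟨σ, hσ⟩ := GaloisBasic.exists_ringEquiv_of_coprime (G := G) hm
  refine h.uniq _ ?_
  rw [← hσ _ (Core.isIrr_isCharacter χ.2) x, h.zero, map_zero]

end Cfsg.Agent.H732.VZ
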