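import Mathlib
import Cfsg.Agent.H732.VZ.Div
import Cfsg.Agent.OddOrderLocal.CyclicSub

/-!
# One vanishing class: a prime with a central cyclic Sylow subgroup does not divide the degree

`z` of prime order `r` such that every `y` commuting with `z` and of order divisible by `r` has
`z ∈ ⟨y⟩`.

* `card_le_mul` : at least `|G| / r` elements of `G` have a conjugate of `z` as a power;
* `dvd_cases` : `χ` vanishes on exactly one class, `r` divides `χ(1)`: `C_G(z) = ⟨z⟩` and `z` is
  conjugate to its powers of order `r`.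
* `central_sylow` : the hypotheses for a cyclic Sylow subgroup `R ∋ z` with `C_G(z) ≤ C_G(R)`.
-/

set_option autoImplicit false

namespace Cfsg.Agent.H732.VZ

open Cfsg Cfsg.Agent.Characters Cfsg.Agent.H686.CharKit Finset

universe u

variable {G : Type u} [Group G]

theorem commute_of_mem_zpowers {z y : G} (h : z ∈ Subgroup.zpowers y) : Commute z y := by
  obtain ⟨k, rfl⟩ := Subgroup.mem_zpowers_iff.1 h
  exact (Commute.refl y).zpow_left k

/-- Elements of the form `y zⁱ` with `y` an `r'`-element commuting with `z`. -/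
theorem mul_pow_inj [Finite G] {r : ℕ} (hr : r.Prime) {z : G} (hz : orderOf z = r) {y y' : G}
    (hy : Commute z y) (hy' : Commute z y') (hry : ¬ r ∣ orderOf y) (hry' : ¬ r ∣ orderOf y')
    {i j : ℕ} (hi : i < r) (hj : j < r) (h : y * z ^ i = y' * z ^ j) : y = y' ∧ i = j := by
  have hcy : Nat.Coprime (orderOf y) r := ((Nat.Prime.coprime_iff_not_dvd hr).2 hry).symm
  have hcy' : Nat.Coprime (orderOf y') r := ((Nat.Prime.coprime_iff_not_dvd hr).2 hry').symm
  -- raise to the power `n = o(y) o(y')`
  have h1 : (y * z ^ i) ^ (orderOf y * orderOf y') = (y' * z ^ j) ^ (orderOf y * orderOf y') := by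
    rw [h]
  rw [(hy.pow_left i).symm.mul_pow, (hy'.pow_left j).symm.mul_pow] at h1
  have h2 : y ^ (orderOf y * orderOf y') = 1 := by rw [pow_mul, pow_orderOf_eq_one, one_pow]
  have h3 : y' ^ (orderOf y * orderOf y') = 1 := by
    rw [mul_comm, pow_mul, pow_orderOf_eq_one, one_pow]
  rw [h2, h3, one_mul, one_mul, ← pow_mul, ← pow_mul] at h1
  have h4 := pow_eq_pow_iff_modEq.1 h1
  rw [hz] at h4
  have h5 : i ≡ j [MOD r] :=
    Nat.ModEq.cancel_right_of_coprime (by
      rw [Nat.gcd_comm]
      exact (Nat.Coprime.mul_left hcy hcy')) h4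
  have h6 : i = j := by
    have := h5
    rw [Nat.ModEq, Nat.mod_eq_of_lt hi, Nat.mod_eq_of_lt hj] at this
    exact this
  subst h6
  exact ⟨mul_right_cancel h, rfl⟩

section Count

variable [Fintype G]

open scoped Classical in
/-- Elements with `z` as a power. -/
noncomputable def DD (z : G) : Finset G := univ.filter fun y : G => z ∈ Subgroup.zpowers y

open scoped Classical in
/-- Elements with a conjugate of `z` as a power. -/
noncomputable def YY (z : G) : Finset G :=
  univ.filter fun g : G => ∃ h : G, h * z * h⁻¹ ∈ Subgroup.zpowers g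

theorem mem_DD {z y : G} : y ∈ DD z ↔ z ∈ Subgroup.zpowers y := by simp [DD]

theorem mem_YY {z g : G} : g ∈ YY z ↔ ∃ h : G, h * z * h⁻¹ ∈ Subgroup.zpowers g := by simp [YY]

/-- `(r - 1) |C_G(z)| ≤ r |D|`. -/
theorem card_centralizer_le {r : ℕ} (hr : r.Prime) {z : G} (hz : orderOf z = r)
    (h1 : ∀ y, Commute z y → r ∣ orderOf y → z ∈ Subgroup.zpowers y) :
    (r - 1) * Nat.card (Subgroup.centralizer ({z} : Set G)) ≤ r * (DD z).card := by
  classical
  set C : Finset G := univ.filter (Commute z) with hC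
  set B : Finset G := univ.filter fun y => Commute z y ∧ ¬ r ∣ orderOf y with hB
  have hCcard : Nat.card (Subgroup.centralizer ({z} : Set G)) = C.card := by
    rw [hC, ← Fintype.card_subtype, ← Nat.card_eq_fintype_card]
    refine Nat.card_congr (Equiv.subtypeEquivRight fun g => ?_)
    rw [Subgroup.mem_centralizer_singleton_iff]
    exact ⟨fun h => h.symm, fun h => h.symm⟩
  have hsub : C = B ∪ DD z := by
    ext y
    simp only [hC, hB, mem_union, mem_filter, mem_univ, true_and, mem_DD]
    constructor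
    · intro h
      by_cases hd : r ∣ orderOf y
      · exact Or.inr (h1 y h hd)
      · exact Or.inl ⟨h, hd⟩
    · rintro (h | h)
      · exact h.1
      · exact commute_of_mem_zpowers h
  have hBD : (r - 1) * B.card ≤ (DD z).card := by
    have : (B ×ˢ (Finset.Ico 1 r)).card ≤ (DD z).card := by
      refine Finset.card_le_card_of_injOn (fun a => a.1 * z ^ a.2) ?_ ?_
      · rintro ⟨y, i⟩ ha
        simp only [Finset.coe_product, Set.mem_prod, Finset.mem_coe, hB, mem_filter, mem_univ,
          true_and, Finset.mem_Ico] at ha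
        obtain ⟨⟨hy, hry⟩, hi1, hir⟩ := ha
        rw [Finset.mem_coe, mem_DD]
        refine h1 _ (Commute.mul_right hy ((Commute.refl z).pow_right i)) ?_
        by_contra hnd
        have h2 := mul_pow_inj hr hz (y := y) (y' := y * z ^ i) (i := i) (j := 0) hy
          (Commute.mul_right hy ((Commute.refl z).pow_right i)) hry hnd hir hr.pos (by simp)
        omega
      · rintro ⟨y, i⟩ ha ⟨y', j⟩ ha' hab
        simp only [Finset.coe_product, Set.mem_prod, Finset.mem_coe, hB, mem_filter, mem_univ,
          true_and, Finset.mem_Ico] at ha ha'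
        obtain ⟨⟨hy, hry⟩, -, hir⟩ := ha
        obtain ⟨⟨hy', hry'⟩, -, hjr⟩ := ha'
        have h2 := mul_pow_inj hr hz hy hy' hry hry' hir hjr hab
        rw [Prod.mk.injEq]
        exact h2
    rw [Finset.card_product, Nat.card_Ico, mul_comm] at this
    exact this
  have hle : C.card ≤ B.card + (DD z).card := by
    rw [hsub]
    exact Finset.card_union_le _ _
  rw [hCcard]
  have hr1 : 1 ≤ r := hr.one_lt.le
  calc (r - 1) * C.card ≤ (r - 1) * (B.card + (DD z).card) := Nat.mul_le_mul_left _ hle
    _ = (r - 1) * B.card + (r - 1) * (DD z).card := by ring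
    _ ≤ (DD z).card + (r - 1) * (DD z).card := Nat.add_le_add_right hBD _
    _ = r * (DD z).card := by
      obtain ⟨k, rfl⟩ : ∃ k, r = k + 1 := ⟨r - 1, by omega⟩
      simp; ring

/-- At most `(r - 1) |C_G(z)|` elements conjugate `z` into a given cyclic subgroup. -/
theorem card_conj_le {r : ℕ} (hr : r.Prime) {z : G} (hz : orderOf z = r) (g : G)
    [DecidablePred fun h : G => h * z * h⁻¹ ∈ Subgroup.zpowers g] :
    (univ.filter fun h : G => h * z * h⁻¹ ∈ Subgroup.zpowers g).card
      ≤ (r - 1) * Nat.card (Subgroup.centralizer ({z} : Set G)) := by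
  classical
  set A : Finset G := univ.filter fun t : G => t ∈ Subgroup.zpowers g ∧ orderOf t = r with hA
  have hAcard : A.card ≤ r - 1 := by
    -- the elements of `⟨g⟩` with `t ^ r = 1`
    have h1 : (univ.filter fun t : Subgroup.zpowers g => t ^ r = 1).card ≤ r :=
      IsCyclic.card_pow_eq_one_le hr.pos
    have h2 : A.card + 1 ≤ (univ.filter fun t : Subgroup.zpowers g => t ^ r = 1).card := by
      have h3 : (insert 1 A).card = A.card + 1 := by
        rw [Finset.card_insert_of_notMem]
        intro h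
        simp only [hA, mem_filter, mem_univ, true_and] at h
        rw [orderOf_one] at h
        exact hr.one_lt.ne h.2
      rw [← h3, ← Finset.card_map (Function.Embedding.subtype (· ∈ Subgroup.zpowers g))]
      refine Finset.card_le_card fun t ht => ?_
      rw [Finset.mem_map]
      rcases Finset.mem_insert.1 ht with rfl | ht
      · exact ⟨1, by simp, rfl⟩
      · simp only [hA, mem_filter, mem_univ, true_and] at ht
        have htr : t ^ r = 1 := by rw [← ht.2, pow_orderOf_eq_one]
        refine ⟨⟨t, ht.1⟩, ?_, rfl⟩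
        simp only [mem_filter, mem_univ, true_and]
        exact Subtype.ext htr
    omega
  have hfib : ∀ t ∈ A, ((univ.filter fun h : G => h * z * h⁻¹ ∈ Subgroup.zpowers g).filter
      fun h => h * z * h⁻¹ = t).card ≤ Nat.card (Subgroup.centralizer ({z} : Set G)) := by
    intro t _
    by_cases hne : ∃ h0, h0 * z * h0⁻¹ = t
    · obtain ⟨h0, rfl⟩ := hne
      have hcard : Nat.card (Subgroup.centralizer ({z} : Set G))
          = (univ.filter (· ∈ Subgroup.centralizer ({z} : Set G))).card := by
        rw [← Fintype.card_subtype, ← Nat.card_eq_fintype_card]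
      rw [hcard]
      refine Finset.card_le_card_of_injOn (fun h => h0⁻¹ * h) ?_ ?_
      · intro h hh
        simp only [Finset.mem_coe, mem_filter, mem_univ, true_and] at hh ⊢
        rw [Subgroup.mem_centralizer_singleton_iff]
        have h3 := hh.2
        have h4 : h * z = h0 * z * h0⁻¹ * h := by rw [← h3]; group
        calc h0⁻¹ * h * z = h0⁻¹ * (h * z) := by group
          _ = h0⁻¹ * (h0 * z * h0⁻¹ * h) := by rw [h4]
          _ = z * (h0⁻¹ * h) := by group
      · intro h _ h' _ hh
        exact mul_left_cancel hh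
    · rw [Finset.filter_false_of_mem, Finset.card_empty]
      · exact Nat.zero_le _
      · intro h _ hh
        exact hne ⟨h, hh⟩
  have hmaps : ∀ h ∈ univ.filter fun h : G => h * z * h⁻¹ ∈ Subgroup.zpowers g,
      h * z * h⁻¹ ∈ A := by
    intro h hh
    simp only [hA, mem_filter, mem_univ, true_and] at hh ⊢
    refine ⟨hh, ?_⟩
    rw [← hz, ← MulAut.conj_apply]
    exact MulEquiv.orderOf_eq (MulAut.conj h) z
  rw [Finset.card_eq_sum_card_fiberwise hmaps]
  calc _ ≤ ∑ _t ∈ A, Nat.card (Subgroup.centralizer ({z} : Set G)) := Finset.sum_le_sum hfib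
    _ = A.card * Nat.card (Subgroup.centralizer ({z} : Set G)) := by
      rw [Finset.sum_const, smul_eq_mul]
    _ ≤ _ := Nat.mul_le_mul_right _ hAcard

/-- At least `|G| / r` elements have a conjugate of `z` as a power. -/
theorem card_le_mul {r : ℕ} (hr : r.Prime) {z : G} (hz : orderOf z = r)
    (h1 : ∀ y, Commute z y → r ∣ orderOf y → z ∈ Subgroup.zpowers y) :
    Fintype.card G ≤ r * (YY z).card := by
  classical
  have hcount := Finset.sum_card_bipartiteAbove_eq_sum_card_bipartiteBelow
    (s := (univ : Finset G)) (t := YY z) (fun (h g : G) => h * z * h⁻¹ ∈ Subgroup.zpowers g)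
  -- left side
  have hleft : ∀ h : G, ((YY z).bipartiteAbove
      (fun (h g : G) => h * z * h⁻¹ ∈ Subgroup.zpowers g) h).card = (DD z).card := by
    intro h
    refine Finset.card_nbij' (fun g => h⁻¹ * g * h) (fun y => h * y * h⁻¹) ?_ ?_ ?_ ?_
    · intro g hg
      simp only [Finset.coe_bipartiteAbove, Set.mem_ofPred_eq] at hg
      rw [Finset.mem_coe, mem_DD]
      obtain ⟨k, hk⟩ := Subgroup.mem_zpowers_iff.1 hg.2
      refine Subgroup.mem_zpowers_iff.2 ⟨k, ?_⟩
      have : h⁻¹ * g * h = h⁻¹ * g * (h⁻¹)⁻¹ := by rw [inv_inv]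
      show (h⁻¹ * g * h) ^ k = z
      rw [this, conj_zpow, hk]
      group
    · intro y hy
      rw [Finset.mem_coe, mem_DD] at hy
      simp only [Finset.coe_bipartiteAbove, Set.mem_ofPred_eq, mem_YY]
      obtain ⟨k, hk⟩ := Subgroup.mem_zpowers_iff.1 hy
      have : h * z * h⁻¹ ∈ Subgroup.zpowers (h * y * h⁻¹) :=
        Subgroup.mem_zpowers_iff.2 ⟨k, by rw [conj_zpow, hk]⟩
      exact ⟨⟨h, this⟩, this⟩
    · intro g _
      show h * (h⁻¹ * g * h) * h⁻¹ = g
      group
    · intro y _
      show h⁻¹ * (h * y * h⁻¹) * h = y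
      group
  rw [Finset.sum_congr rfl fun h _ => hleft h, Finset.sum_const, smul_eq_mul,
    Finset.card_univ] at hcount
  -- right side
  have hright : ∑ g ∈ YY z, ((univ : Finset G).bipartiteBelow
      (fun (h g : G) => h * z * h⁻¹ ∈ Subgroup.zpowers g) g).card
      ≤ (YY z).card * ((r - 1) * Nat.card (Subgroup.centralizer ({z} : Set G))) := by
    rw [← smul_eq_mul, ← Finset.sum_const]
    refine Finset.sum_le_sum fun g _ => ?_
    exact card_conj_le hr hz g
  have h2 := card_centralizer_le hr hz h1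
  have h3 : Fintype.card G * (DD z).card ≤ (YY z).card * (r * (DD z).card) := by
    rw [hcount]
    exact hright.trans (Nat.mul_le_mul_left _ h2)
  have h4 : 0 < (DD z).card := Finset.card_pos.2 ⟨z, mem_DD.2 (Subgroup.mem_zpowers z)⟩
  have h5 : Fintype.card G * (DD z).card ≤ (r * (YY z).card) * (DD z).card := by
    calc _ ≤ _ := h3
      _ = _ := by ring
  exact Nat.le_of_mul_le_mul_right h5 h4

end Count

/-- Lifting an exponent prime to `r` to one prime to the group order. -/
theorem exists_coprime_lift [Finite G] {r : ℕ} (hr : r.Prime) (hrG : r ∣ Nat.card G) {m : ℕ}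
    (hm : ¬ r ∣ m) : ∃ k : ℕ, k.Coprime (Nat.card G) ∧ k ≡ m [MOD r] := by
  have : NeZero (Nat.card G) := ⟨Nat.card_pos.ne'⟩
  have hcop : m.Coprime r := ((Nat.Prime.coprime_iff_not_dvd hr).2 hm).symm
  obtain ⟨u, hu⟩ := ZMod.unitsMap_surjective hrG (ZMod.unitOfCoprime m hcop)
  refine ⟨(u : ZMod (Nat.card G)).val, ZMod.val_coe_unit_coprime u, ?_⟩
  rw [← ZMod.natCast_eq_natCast_iff]
  have h1 := congrArg (fun v : (ZMod r)ˣ => (v : ZMod r)) hu
  simp only [ZMod.unitsMap_val, ZMod.coe_unitOfCoprime] at h1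
  rw [← h1, ZMod.natCast_val]

section Main

variable [Fintype G] [DecidableEq G]

omit [DecidableEq G] in
theorem gal_YY (z : G) : H695.OneZero.Gal (YY z) := by
  intro g hg k hk
  rw [mem_YY] at hg ⊢
  obtain ⟨h, hh⟩ := hg
  obtain ⟨m, hm⟩ := exists_pow_eq_self_of_coprime (x := g) (n := k)
    (hk.coprime_dvd_right (orderOf_dvd_natCard g))
  refine ⟨h, ?_⟩
  have : Subgroup.zpowers g ≤ Subgroup.zpowers (g ^ k) := by
    rw [Subgroup.zpowers_le]
    exact Subgroup.mem_zpowers_iff.2 ⟨m, by rw [zpow_natCast]; exact hm⟩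
  exact this hh

/-- **Main statement.** -/
theorem dvd_cases {χ : IrrCharacter G} {x : G} (h : One χ x) {r : ℕ} (hr : r.Prime) {z : G}
    (hz : orderOf z = r)
    (h1 : ∀ y, Commute z y → r ∣ orderOf y → z ∈ Subgroup.zpowers y)
    (h2 : ∀ y, Commute z y → r ∣ orderOf y →
      ¬ r ∣ (Subgroup.centralizer ({y} : Set G)).index)
    (hdeg : r ∣ charDegree (χ : G → ℂ)) :
    Nat.card (Subgroup.centralizer ({z} : Set G)) = r ∧ ∀ m : ℕ, ¬ r ∣ m → IsConj z (z ^ m) := by
  classical
  have hr2 := hr.two_le
  -- conjugating into the centralizer of `z`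
  have hconj : ∀ g ∈ YY z, ∃ c : G, z ∈ Subgroup.zpowers (c⁻¹ * g * c) := by
    intro g hg
    obtain ⟨c, hc⟩ := mem_YY.1 hg
    refine ⟨c, ?_⟩
    obtain ⟨k, hk⟩ := Subgroup.mem_zpowers_iff.1 hc
    refine Subgroup.mem_zpowers_iff.2 ⟨k, ?_⟩
    have : c⁻¹ * g * c = c⁻¹ * g * (c⁻¹)⁻¹ := by rw [inv_inv]
    rw [this, conj_zpow, hk]
    group
  have hindex : ∀ g c : G, (Subgroup.centralizer ({c⁻¹ * g * c} : Set G)).index
      = (Subgroup.centralizer ({g} : Set G)).index := by
    intro g c
    rw [CentralCharacter.index_centralizer_eq_card, CentralCharacter.index_centralizer_eq_card]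
    refine Nat.card_congr (Equiv.subtypeEquivRight fun y => ?_)
    have : IsConj g (c⁻¹ * g * c) := isConj_iff.2 ⟨c⁻¹, by rw [inv_inv]⟩
    exact ⟨fun hh => this.trans hh, fun hh => this.symm.trans hh⟩
  have hint : ∀ g ∈ YY z, IsIntegral ℤ ((χ : G → ℂ) g / r) := by
    intro g hg
    obtain ⟨c, hc⟩ := hconj g hg
    refine isIntegral_div χ hr hdeg ?_
    rw [← hindex g c]
    refine h2 _ (commute_of_mem_zpowers hc) ?_
    rw [← hz]
    exact orderOf_dvd_of_mem_zpowers hc
  set Z : Finset G := univ.filter fun g : G => (χ : G → ℂ) g = 0 with hZ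
  have hZcard : Z.card * Nat.card (Subgroup.centralizer ({x} : Set G)) = Nat.card G := card_zeros h
  have hxc : 0 < Nat.card (Subgroup.centralizer ({x} : Set G)) := Nat.card_pos
  have hYG := card_le_mul hr hz h1
  have hYpos : 0 < (YY z).card := Finset.card_pos.2
    ⟨z, mem_YY.2 ⟨1, by simp⟩⟩
  have hcG : Nat.card G = Fintype.card G := Nat.card_eq_fintype_card
  -- the part of `YY` without zeros
  set Y' : Finset G := YY z ∩ Zᶜ with hY'
  have hgal : H695.OneZero.Gal Y' := (gal_YY z).inter (H695.OneZero.gal_zero χ).compl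
  have hexc := H695.OneZero.gal_zero χ
  have hex := excess χ hgal (fun g hg hg0 => by
    rw [hY', mem_inter, mem_compl] at hg
    exact hg.2 (by rw [hZ, mem_filter]; exact ⟨mem_univ _, hg0⟩)) hr.pos
    (fun g hg => hint g (mem_inter.1 hg).1)
  rw [← hZ] at hex
  -- is there a zero in `YY`?
  by_cases hno : ∀ g ∈ YY z, (χ : G → ℂ) g ≠ 0
  · exfalso
    have hYY' : Y' = YY z := by
      rw [hY']
      refine inter_eq_left.2 fun g hg => ?_
      rw [mem_compl, hZ, mem_filter]
      exact fun hh => hno g hg hh.2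
    rw [hYY'] at hex
    have hZle : Z.card ≤ Nat.card G := by
      rw [← hZcard]
      exact Nat.le_mul_of_pos_right _ hxc
    have : (YY z).card * r ^ 2 ≤ (YY z).card + r * (YY z).card := by omega
    have h5 : r ^ 2 ≤ 1 + r := by
      have h6 : (YY z).card * r ^ 2 ≤ (YY z).card * (1 + r) := by
        calc _ ≤ _ := this
          _ = _ := by ring
      exact Nat.le_of_mul_le_mul_left h6 hYpos
    nlinarith
  · push Not at hno
    obtain ⟨g, hg, hg0⟩ := hno
    obtain ⟨c, hc⟩ := hconj g hg
    set x' := c⁻¹ * g * c with hx'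
    have hxx' : IsConj x x' := (h.uniq g hg0).trans
      (isConj_iff.2 ⟨c⁻¹, by rw [inv_inv]⟩)
    have hx'0 : (χ : G → ℂ) x' = 0 := by
      obtain ⟨b, hb⟩ := isConj_iff.1 hxx'
      rw [← hb, Core.isIrr_isClassFunction χ.2 x b]
      exact h.zero
    have h' : One χ x' := ⟨hx'0, fun y hy => hxx'.symm.trans (h.uniq y hy)⟩
    have hZcard' : Z.card * Nat.card (Subgroup.centralizer ({x'} : Set G)) = Nat.card G :=
      card_zeros h'
    have hZY : Z ⊆ YY z := by
      intro y hy
      rw [hZ, mem_filter] at hy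
      obtain ⟨b, hb⟩ := isConj_iff.1 (h'.uniq y hy.2)
      rw [mem_YY]
      refine ⟨b, ?_⟩
      obtain ⟨k, hk⟩ := Subgroup.mem_zpowers_iff.1 hc
      exact Subgroup.mem_zpowers_iff.2 ⟨k, by rw [← hb, conj_zpow, hk]⟩
    have hYcard : (YY z).card = Y'.card + Z.card := by
      have h3 : YY z \ Z = Y' := by
        rw [hY']
        exact sdiff_eq_inter_compl _ _
      have h4 := Finset.card_sdiff_add_card_eq_card hZY
      rw [h3] at h4
      exact h4.symm
    set c' := Nat.card (Subgroup.centralizer ({x'} : Set G)) with hc'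
    have hc'pos : 0 < c' := Nat.card_pos
    have hZpos : 0 < Z.card := Finset.card_pos.2
      ⟨x', by rw [hZ, mem_filter]; exact ⟨mem_univ _, hx'0⟩⟩
    -- `c' ≤ r`
    have hle : c' ≤ r := by
      by_contra hcon
      push Not at hcon
      have e1 : Z.card * c' ≤ r * (Y'.card + Z.card) := by
        rw [hZcard', hcG, ← hYcard]
        exact hYG
      -- `Y' (r² - 1) ≤ Z`
      have e2 : Y'.card * r ^ 2 ≤ Y'.card + Z.card := hex
      have e3 : Z.card * (r + 1) ≤ r * (Y'.card + Z.card) :=
        (Nat.mul_le_mul_left _ hcon).trans e1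
      have e4 : Z.card ≤ r * Y'.card := by nlinarith
      have e5 : Y'.card * r ^ 2 ≤ Y'.card + r * Y'.card := by omega
      rcases Nat.eq_zero_or_pos Y'.card with e6 | e6
      · rw [e6] at e4; omega
      · have h5 : r ^ 2 ≤ 1 + r := by
          have h6 : Y'.card * r ^ 2 ≤ Y'.card * (1 + r) := by
            calc _ ≤ _ := e5
              _ = _ := by ring
          exact Nat.le_of_mul_le_mul_left h6 e6
        nlinarith
    have hrx' : r ∣ orderOf x' := by
      rw [← hz]
      exact orderOf_dvd_of_mem_zpowers hc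
    have hx'le : Subgroup.zpowers x' ≤ Subgroup.centralizer ({x'} : Set G) := by
      rw [Subgroup.zpowers_le, Subgroup.mem_centralizer_singleton_iff]
    have hdvd : orderOf x' ∣ c' := by
      rw [← Nat.card_zpowers]
      exact Subgroup.card_dvd_of_le hx'le
    have hox' : orderOf x' = r := by
      have e1 : orderOf x' ≤ r := (Nat.le_of_dvd hc'pos hdvd).trans hle
      exact le_antisymm e1 (Nat.le_of_dvd (orderOf_pos _) hrx')
    have hc'r : c' = r := le_antisymm hle (by
      rw [← hox']
      exact Nat.le_of_dvd hc'pos hdvd)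
    have hzz : Subgroup.zpowers z = Subgroup.zpowers x' := by
      refine Subgroup.eq_of_le_of_card_ge ?_ ?_
      · rw [Subgroup.zpowers_le]
        exact hc
      · rw [Nat.card_zpowers, Nat.card_zpowers, hz, hox']
    have hcent : Subgroup.centralizer ({z} : Set G) = Subgroup.centralizer ({x'} : Set G) := by
      rw [← Subgroup.centralizer_closure, ← Subgroup.zpowers_eq_closure, hzz,
        Subgroup.zpowers_eq_closure, Subgroup.centralizer_closure]
    have hrG : r ∣ Nat.card G := by
      rw [← hz]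
      exact orderOf_dvd_natCard z
    refine ⟨by rw [hcent, ← hc'r], fun m hm => ?_⟩
    -- powers of `x'`
    have hpow : ∀ t : ℕ, ¬ r ∣ t → IsConj x' (x' ^ t) := by
      intro t ht
      obtain ⟨k, hk, hkt⟩ := exists_coprime_lift hr hrG ht
      have h3 := h'.conj_pow hk
      have h4 : x' ^ k = x' ^ t := by
        rw [pow_eq_pow_iff_modEq, hox']
        exact hkt
      rwa [h4] at h3
    obtain ⟨t, ht⟩ : ∃ t : ℕ, x' ^ t = z := by
      have : z ∈ Subgroup.zpowers x' := hc
      obtain ⟨t, ht⟩ := (mem_powers_iff_mem_zpowers.2 this)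
      exact ⟨t, ht⟩
    have htr : ¬ r ∣ t := by
      rintro ⟨s, rfl⟩
      rw [pow_mul, ← hox', pow_orderOf_eq_one, one_pow] at ht
      rw [← ht, orderOf_one] at hz
      exact hr.one_lt.ne hz
    have e1 := hpow t htr
    have e2 := hpow (t * m) (fun hh => (hr.dvd_mul.1 hh).elim htr hm)
    rw [ht] at e1
    rw [pow_mul, ht] at e2
    exact e1.symm.trans e2

end Main

/-- The hypotheses of `dvd_cases` for a central cyclic Sylow subgroup of the centralizer. -/
theorem central_sylow [Finite G] {r : ℕ} [hr : Fact r.Prime] (R : Sylow r G)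
    (hcyc : IsCyclic (R : Subgroup G)) {z : G} (hz : orderOf z = r) (hzR : z ∈ (R : Subgroup G))
    (hC : ∀ y, Commute z y → ∀ t ∈ (R : Subgroup G), Commute t y) :
    (∀ y, Commute z y → r ∣ orderOf y → z ∈ Subgroup.zpowers y) ∧
    (∀ y, Commute z y → ¬ r ∣ (Subgroup.centralizer ({y} : Set G)).index) := by
  constructor
  · intro y hy hry
    -- the power of `y` of order `r`
    obtain ⟨s, hs⟩ := hry
    have hs0 : s ≠ 0 := by
      rintro rfl
      exact (orderOf_pos y).ne' (by simpa using hs)
    set w := y ^ s with hw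
    have hwo : orderOf w = r := by
      rw [hw, orderOf_pow_of_dvd hs0 ⟨r, by rw [hs]; ring⟩, hs, Nat.mul_div_cancel _ (Nat.pos_of_ne_zero hs0)]
    -- `w` centralizes `R`, so it lies in `R`
    have hwR : w ∈ (R : Subgroup G) := by
      have hcw : ∀ t ∈ (R : Subgroup G), Commute t w := fun t ht => (hC y hy t ht).pow_right s
      have hwP : IsPGroup r (Subgroup.zpowers w) := IsPGroup.of_card (n := 1) (by
        rw [Nat.card_zpowers, hwo, pow_one])
      have hnorm : Subgroup.zpowers w ≤ Subgroup.normalizer ((R : Subgroup G) : Set G) := by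
        rw [Subgroup.zpowers_le, Subgroup.mem_normalizer_iff]
        intro t
        constructor
        · intro ht
          have : w * t * w⁻¹ = t := by rw [(hcw t ht).symm.eq]; group
          rw [this]; exact ht
        · intro ht
          have h3 := hcw _ ht
          have : w * t * w⁻¹ = t := by
            have h4 : w * (w * t * w⁻¹) = w * t * w⁻¹ * w := h3.symm.eq
            have h5 : w * (w * t * w⁻¹) = w * t := by rw [h4]; group
            exact mul_left_cancel h5
          rwa [this] at ht
      have hsup : IsPGroup r (((R : Subgroup G) ⊔ Subgroup.zpowers w : Subgroup G)) := by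
        exact IsPGroup.to_sup_of_normal_left' R.2 hwP hnorm
      have := R.3 hsup le_sup_left
      rw [← this]
      exact (le_sup_right : Subgroup.zpowers w ≤ _) (Subgroup.mem_zpowers w)
    -- unique subgroup of order `r`
    have hzw : z ∈ Subgroup.zpowers w := by
      have h3 : Subgroup.zpowers z = Subgroup.zpowers w :=
        Cfsg.Agent.OddOrderLocal.CyclicSub.eq_of_card_eq_of_le_cyclic hcyc
          (Subgroup.zpowers_le.2 hzR) (Subgroup.zpowers_le.2 hwR) (by
            rw [Nat.card_zpowers, Nat.card_zpowers, hz, hwo])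
      rw [← h3]
      exact Subgroup.mem_zpowers _
    obtain ⟨k, hk⟩ := Subgroup.mem_zpowers_iff.1 hzw
    refine Subgroup.mem_zpowers_iff.2 ⟨s * k, ?_⟩
    rw [zpow_mul, zpow_natCast]
    exact hk
  · intro y hy hd
    have hle : (R : Subgroup G) ≤ Subgroup.centralizer ({y} : Set G) := by
      intro t ht
      rw [Subgroup.mem_centralizer_singleton_iff]
      exact hC y hy t ht
    exact R.not_dvd_index (hd.trans (Subgroup.index_dvd_of_le hle))

end Cfsg.Agent.H732.VZ
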