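import Mathlib
import Cfsg.Agent.H732.VZ.Sing
import Cfsg.Agent.H732.Kaw.Fin
import Cfsg.Agent.Blocks.PElements
import Cfsg.Agent.Characters.DefectZero
import Cfsg.Agent.Characters.Values

/-!
# One vanishing class: the closing lemma for groups in characteristic `p` (S4842)

`G` simple nonabelian, `|G| = p ^ a * n`, `p ∤ n`, with `p ^ (2 a)` elements of `p`-power order and
`∑_{p-elements} χ = e p ^ m χ(1)`, `e = ±1`.  If `χ` vanishes on exactly one class and `G` has two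
classes of `p`-singular elements then `0 < m < 2 a` and `e p ^ m ≡ 1` modulo every isolated prime
`r` (`Iso G p r`), see `close`.
-/

set_option autoImplicit false

namespace Cfsg.Agent.H732.VZ

open Cfsg Cfsg.Agent.Characters Cfsg.Agent.H686.CharKit Cfsg.Agent.H631.Kaw Finset

universe u

variable {G : Type u} [Group G]

/-- An isolated prime `r` relative to `p`. -/
structure Iso (G : Type u) [Group G] (p r : ℕ) : Prop where
  prime : r.Prime
  ne : r ≠ p
  ex : ∃ z : G, orderOf z = r ∧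
    (∀ y, Commute z y → r ∣ orderOf y → z ∈ Subgroup.zpowers y) ∧
    (∀ y, Commute z y → r ∣ orderOf y → ¬ r ∣ (Subgroup.centralizer ({y} : Set G)).index) ∧
    (∀ v, Commute z v → (∃ k, orderOf v = p ^ k) → v = 1) ∧
    (Nat.card (Subgroup.centralizer ({z} : Set G)) ≠ r ∨ ∃ m : ℕ, ¬ r ∣ m ∧ ¬ IsConj z (z ^ m))

/-- In a simple nonabelian group a character with a zero has absolute value less than the degree
away from the identity. -/
theorem norm_ne [Finite G] [IsSimpleGroup G] (hna : ¬ IsMulCommutative G) (χ : IrrCharacter G)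
    {x : G} (hx : (χ : G → ℂ) x = 0) {g : G} (hg : g ≠ 1) :
    ‖(χ : G → ℂ) g‖ ≠ charDegree (χ : G → ℂ) := by
  intro h
  obtain ⟨n, ρ, hρ, hρχ⟩ := χ.2
  have hdeg : (charDegree (χ : G → ℂ) : ℝ) = (Module.finrank ℂ (Fin n → ℂ) : ℝ) := by
    have h1 : (charDegree (χ : G → ℂ) : ℂ) = (Module.finrank ℂ (Fin n → ℂ) : ℂ) := by
      rw [charDegree_irr χ, ← hρχ, Representation.char_one]
    exact_mod_cast h1
  rw [hdeg, ← hρχ, Values.norm_character_eq_iff] at h
  obtain ⟨w, hw⟩ := h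
  have hcomm : ∀ y : G, ρ (y * g * y⁻¹ * g⁻¹) = 1 := by
    intro y
    have h2 : ρ (y * g) = ρ (g * y) := by
      rw [map_mul, map_mul, hw]
      ext v
      simp
    have h3 : y * g * y⁻¹ * g⁻¹ = (y * g) * (g * y)⁻¹ := by group
    rw [h3, map_mul, h2, ← map_mul, mul_inv_cancel, map_one]
  rcases IsSimpleGroup.eq_bot_or_eq_top_of_normal (MonoidHom.ker ρ.asGroupHom) inferInstance
    with hk | hk
  · -- `g` is central
    have hc : ∀ y : G, y * g = g * y := by
      intro y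
      have h2 : y * g * y⁻¹ * g⁻¹ ∈ MonoidHom.ker ρ.asGroupHom := by
        rw [MonoidHom.mem_ker]
        exact Units.ext (hcomm y)
      rw [hk, Subgroup.mem_bot] at h2
      have h3 : y * g = (y * g * y⁻¹ * g⁻¹) * (g * y) := by group
      rw [h3, h2, one_mul]
    have hcen : g ∈ Subgroup.center G := Subgroup.mem_center_iff.2 hc
    rcases IsSimpleGroup.eq_bot_or_eq_top_of_normal (Subgroup.center G) inferInstance with hz | hz
    · rw [hz, Subgroup.mem_bot] at hcen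
      exact hg hcen
    · exact hna ⟨⟨fun a b => (Subgroup.mem_center_iff.1 (hz ▸ Subgroup.mem_top b : b ∈ Subgroup.center G) a)⟩⟩
  · have hx1 : ρ x = 1 := by
      have h2 : x ∈ MonoidHom.ker ρ.asGroupHom := hk ▸ Subgroup.mem_top x
      rw [MonoidHom.mem_ker] at h2
      exact congrArg Units.val h2
    have h3 : (χ : G → ℂ) x = (χ : G → ℂ) 1 := by
      have hx2 : ρ x = ρ 1 := by rw [hx1, map_one]
      rw [← hρχ]
      unfold Representation.character
      rw [hx2]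
    rw [hx] at h3
    have h4 := charDegree_pos χ
    have h5 := charDegree_irr χ
    rw [← h3] at h5
    have h6 : charDegree (χ : G → ℂ) = 0 := by exact_mod_cast h5
    omega

/-- Characters of `p`-defect zero vanish on `p`-singular elements. -/
theorem zero_of_defect [Finite G] {p a n : ℕ} (hp : p.Prime) (hcard : Nat.card G = p ^ a * n)
    (hn : ¬ p ∣ n) (χ : IrrCharacter G) (hdeg : p ^ a ∣ charDegree (χ : G → ℂ)) {g : G}
    (hg : p ∣ orderOf g) : (χ : G → ℂ) g = 0 := by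
  have := Fintype.ofFinite G
  obtain ⟨k, ρ, hρ, hρχ⟩ := χ.2
  have h1 : charDegree (χ : G → ℂ) = Module.finrank ℂ (Fin k → ℂ) := by
    have h1 : (charDegree (χ : G → ℂ) : ℂ) = (Module.finrank ℂ (Fin k → ℂ) : ℂ) := by
      rw [charDegree_irr χ, ← hρχ, Representation.char_one]
    exact_mod_cast h1
  have h2 : ¬ p ^ (a + 1) ∣ Nat.card G := by
    rw [hcard, pow_succ]
    intro h
    exact hn (Nat.dvd_of_mul_dvd_mul_left (pow_pos hp.pos a) h)
  have h3 := DefectZero.character_inv_eq_zero ρ hρ p a hp (hcard ▸ Dvd.intro _ rfl) h2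
    (h1 ▸ hdeg) g⁻¹ (by rwa [orderOf_inv])
  rw [inv_inv] at h3
  rw [← hρχ]
  exact h3

theorem sum_pel_eq [Finite G] {p : ℕ} (f : G → ℂ) :
    ∑ g ∈ pel G p, f g = ∑ᶠ x ∈ Cfsg.Agent.Blocks.PElements.pElements G p, f x := by
  rw [finsum_mem_eq_finite_toFinset_sum _ (Set.toFinite _)]
  rfl

/-- **Closing lemma.** -/
theorem close [Finite G] [IsSimpleGroup G] (hna : ¬ IsMulCommutative G) {χ : IrrCharacter G}
    {x : G} (h : One χ x) {p a n : ℕ} (hp : p.Prime) (ha : a ≠ 0)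
    (hcard : Nat.card G = p ^ a * n) (hn : ¬ p ∣ n)
    (hpel : Nat.card {g : G // ∃ k : ℕ, orderOf g = p ^ k} = (p ^ a) ^ 2)
    (hkaw : ∃ (m : ℕ) (e : ℤ), (e = 1 ∨ e = -1) ∧
      ∑ g ∈ pel G p, (χ : G → ℂ) g = e * (p : ℂ) ^ m * (χ : G → ℂ) 1)
    (hsing : ∃ u v : G, p ∣ orderOf u ∧ p ∣ orderOf v ∧ ¬ IsConj u v) :
    ∃ (m : ℕ) (e : ℤ), (e = 1 ∨ e = -1) ∧ 0 < m ∧ m < 2 * a ∧
      (∀ r, Iso G p r → (r : ℤ) ∣ e * p ^ m - 1) ∧
      (∀ (r : ℕ) (z : G), r.Prime → r ≠ p → orderOf z = r → ¬ r ∣ charDegree (χ : G → ℂ) →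
        (∀ v, Commute z v → (∃ k, orderOf v = p ^ k) → (χ : G → ℂ) (z * v) = (χ : G → ℂ) z) →
        (r : ℤ) ∣ e * p ^ m - p ^ (2 * a) ∧
        (r : ℤ) ∣ e * p ^ m - Nat.card {v : G // Commute z v ∧ ∃ k : ℕ, orderOf v = p ^ k}) := by
  classical
  have := Fintype.ofFinite G
  obtain ⟨m, e, he, hm⟩ := hkaw
  have hp1 : 1 < p := hp.one_lt
  have hdpos := charDegree_pos χ
  have hdC := charDegree_irr χ
  have hpelcard : (pel G p).card = (p ^ a) ^ 2 := by
    rw [← hpel, Nat.card_eq_fintype_card, ← Fintype.card_coe]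
    refine Fintype.card_congr (Equiv.subtypeEquivRight fun g => mem_pel)
  have hnorm_e : ‖((e : ℤ) : ℂ)‖ = 1 := by
    rcases he with rfl | rfl <;> simp
  have hle : ∀ g : G, ‖(χ : G → ℂ) g‖ ≤ charDegree (χ : G → ℂ) := by
    intro g
    obtain ⟨k, ρ, hρ, hρχ⟩ := χ.2
    have h1 : (charDegree (χ : G → ℂ) : ℝ) = (Module.finrank ℂ (Fin k → ℂ) : ℝ) := by
      have h1 : (charDegree (χ : G → ℂ) : ℂ) = (Module.finrank ℂ (Fin k → ℂ) : ℂ) := by
        rw [charDegree_irr χ, ← hρχ, Representation.char_one]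
      exact_mod_cast h1
    rw [h1, ← hρχ]
    exact Values.norm_character_le ρ g
  have hnormsum : ‖∑ g ∈ pel G p, (χ : G → ℂ) g‖ = (p : ℝ) ^ m * charDegree (χ : G → ℂ) := by
    rw [hm, norm_mul, norm_mul, hnorm_e, one_mul, norm_pow, Complex.norm_natCast, ← hdC,
      Complex.norm_natCast]
  -- a nontrivial `p`-element
  have hpG : p ∣ Nat.card G := by
    rw [hcard]
    exact (dvd_pow_self p ha).mul_right n
  have : Fact p.Prime := ⟨hp⟩
  obtain ⟨y, hy⟩ := exists_prime_orderOf_dvd_card' p hpG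
  have hy1 : y ≠ 1 := by
    rintro rfl
    rw [orderOf_one] at hy
    omega
  have hylt : ‖(χ : G → ℂ) y‖ < charDegree (χ : G → ℂ) :=
    lt_of_le_of_ne (hle y) (norm_ne hna χ h.zero hy1)
  have hlt : (p : ℝ) ^ m * charDegree (χ : G → ℂ) < (p : ℝ) ^ (2 * a) * charDegree (χ : G → ℂ) := by
    rw [← hnormsum]
    calc ‖∑ g ∈ pel G p, (χ : G → ℂ) g‖ ≤ ∑ g ∈ pel G p, ‖(χ : G → ℂ) g‖ := norm_sum_le _ _
      _ < ∑ _g ∈ pel G p, (charDegree (χ : G → ℂ) : ℝ) :=
        Finset.sum_lt_sum (fun g _ => hle g) ⟨y, mem_pel.2 ⟨1, by rw [hy, pow_one]⟩, hylt⟩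
      _ = (p : ℝ) ^ (2 * a) * charDegree (χ : G → ℂ) := by
        rw [Finset.sum_const, nsmul_eq_mul, hpelcard]
        push_cast
        ring
  have hm2 : m < 2 * a := by
    have h1 : (p : ℝ) ^ m < (p : ℝ) ^ (2 * a) := by
      have hd : (0 : ℝ) < charDegree (χ : G → ℂ) := by exact_mod_cast hdpos
      exact lt_of_mul_lt_mul_right hlt hd.le
    have h2 : p ^ m < p ^ (2 * a) := by exact_mod_cast h1
    exact (Nat.pow_lt_pow_iff_right hp1).1 h2
  have hm0 : 0 < m := by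
    rw [Nat.pos_iff_ne_zero]
    rintro rfl
    obtain ⟨b, hb, hbs⟩ := Cfsg.Agent.Blocks.PElements.exists_integral_sum_pElements (p := p)
      (Core.isIrr_isCharacter χ.2)
    rw [← sum_pel_eq, hm, pow_zero, mul_one] at hbs
    have hfac : (Nat.card G).factorization p = a := by
      have hn0 : n ≠ 0 := by rintro rfl; exact hn (dvd_zero p)
      rw [hcard, Nat.factorization_mul (pow_ne_zero _ hp.ne_zero) hn0, Finsupp.add_apply,
        hp.factorization_pow, Finsupp.single_eq_same, Nat.factorization_eq_zero_of_not_dvd hn,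
        add_zero]
    rw [hfac] at hbs
    -- `charDegree = p ^ a * (integer)`
    have hpa : ((p ^ a : ℕ) : ℂ) ≠ 0 := by exact_mod_cast (pow_pos hp.pos a).ne'
    have he2 : (e : ℂ) * e = 1 := by
      rcases he with rfl | rfl <;> norm_num
    have hdeg : (charDegree (χ : G → ℂ) : ℂ) = ((p ^ a : ℕ) : ℂ) * (e * b) := by
      rw [hdC]
      calc (χ : G → ℂ) 1 = (e * e) * (χ : G → ℂ) 1 := by rw [he2, one_mul]
        _ = e * (e * (χ : G → ℂ) 1) := by ring
        _ = e * (((p ^ a : ℕ) : ℂ) * b) := by rw [hbs]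
        _ = _ := by ring
    have hint : IsIntegral ℤ ((e : ℂ) * b) := by
      have : IsIntegral ℤ ((e : ℤ) : ℂ) := by
        simpa using isIntegral_algebraMap (R := ℤ) (A := ℂ) (x := e)
      exact this.mul hb
    obtain ⟨k, hk⟩ := GaloisBasic.exists_int_of_isIntegral hint
      ⟨(charDegree (χ : G → ℂ) : ℚ) / ((p ^ a : ℕ) : ℚ), by
        rw [Rat.cast_div, Rat.cast_natCast, Rat.cast_natCast, hdeg, mul_div_cancel_left₀ _ hpa]⟩
    rw [hk] at hdeg
    have h3 : ((charDegree (χ : G → ℂ) : ℕ) : ℤ) = ((p ^ a : ℕ) : ℤ) * k := by exact_mod_cast hdeg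
    have h4 : p ^ a ∣ charDegree (χ : G → ℂ) := by
      have : ((p ^ a : ℕ) : ℤ) ∣ ((charDegree (χ : G → ℂ) : ℕ) : ℤ) := ⟨k, h3⟩
      exact_mod_cast this
    obtain ⟨u, v, hu, hv, huv⟩ := hsing
    exact huv ((h.uniq u (zero_of_defect hp hcard hn χ h4 hu)).symm.trans
      (h.uniq v (zero_of_defect hp hcard hn χ h4 hv)))
  -- congruences
  have hgen : ∀ (r : ℕ) (z : G), r.Prime → r ≠ p → orderOf z = r →
      ¬ r ∣ charDegree (χ : G → ℂ) →
      (∀ v, Commute z v → (∃ k, orderOf v = p ^ k) → (χ : G → ℂ) (z * v) = (χ : G → ℂ) z) →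
      (r : ℤ) ∣ e * p ^ m - p ^ (2 * a) ∧
      (r : ℤ) ∣ e * p ^ m - Nat.card {v : G // Commute z v ∧ ∃ k : ℕ, orderOf v = p ^ k} := by
    intro r z hr hrp hz hrd hK
    set s : G → ℤ := fun g => if g ∈ pel G p then 1 else 0 with hs
    have hs1 : ∀ g x : G, s (g * x * g⁻¹) = s x := by
      intro g y
      simp only [hs]
      have : g * y * g⁻¹ ∈ pel G p ↔ y ∈ pel G p := ⟨fun h => by
        have := Kaw.conj_mem_pel g⁻¹ _ h
        have e : g⁻¹ * (g * y * g⁻¹) * g⁻¹⁻¹ = y := by group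
        rwa [e] at this, Kaw.conj_mem_pel g y⟩
      simp only [this]
    have hs2 : ∀ g, s g ≠ 0 → g ∈ pel G p := by
      intro g hg
      by_contra hgp
      exact hg (by simp only [hs, if_neg hgp])
    have hs3 : ∀ g, s g ≠ 0 → ¬ r ∣ orderOf g := by
      intro g hg hd
      obtain ⟨k, hk⟩ := mem_pel.1 (hs2 g hg)
      rw [hk] at hd
      exact hrp ((Nat.prime_dvd_prime_iff_eq hr hp).1 (hr.dvd_of_dvd_pow hd))
    have hsum : ∑ g, (s g : ℂ) * (χ : G → ℂ) g = ((e * p ^ m : ℤ) : ℂ) * (χ : G → ℂ) 1 := by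
      push_cast
      rw [← hm]
      have : ∀ g : G, (s g : ℂ) * (χ : G → ℂ) g = if g ∈ pel G p then (χ : G → ℂ) g else 0 := by
        intro g
        simp only [hs]
        split_ifs <;> simp
      rw [Finset.sum_congr rfl fun g _ => this g, ← Finset.sum_filter]
      refine Finset.sum_congr ?_ fun _ _ => rfl
      ext g; simp
    have hc1 := congr hr hz s hs1 hs3 χ hsum (fun v hv hsv => hK v hv (mem_pel.1 (hs2 v hsv))) hrd
    have hc2 := sum_modEq hr hz s hs1
    have htot : ∑ g, s g = (p : ℤ) ^ (2 * a) := by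
      simp only [hs]
      rw [← Finset.sum_filter, Finset.sum_const, nsmul_eq_mul, mul_one]
      have : (univ.filter fun g => g ∈ pel G p) = pel G p := by ext g; simp
      rw [this, hpelcard]
      push_cast
      ring
    have hcent : ∑ g ∈ univ.filter (Commute z), s g
        = (Nat.card {v : G // Commute z v ∧ ∃ k : ℕ, orderOf v = p ^ k} : ℤ) := by
      simp only [hs]
      rw [← Finset.sum_filter, Finset.sum_const, nsmul_eq_mul, mul_one, Finset.filter_filter,
        Nat.card_eq_fintype_card, Fintype.card_subtype]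
      congr 2
      ext g
      simp only [mem_filter, mem_univ, true_and, mem_pel]
    refine ⟨?_, ?_⟩
    · have := hc1.trans hc2.symm
      rw [htot] at this
      exact (Int.modEq_iff_dvd.1 this.symm)
    · rw [hcent] at hc1
      exact (Int.modEq_iff_dvd.1 hc1.symm)
  refine ⟨m, e, he, hm0, hm2, ?_, hgen⟩
  rintro r ⟨hr, hrp, z, hz, h1, h2, h3, h4⟩
  have hrd : ¬ r ∣ charDegree (χ : G → ℂ) := by
    intro hd
    obtain ⟨h5, h6⟩ := dvd_cases h hr hz h1 h2 hd
    rcases h4 with h4 | ⟨m, hm1, hm2⟩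
    · exact h4 h5
    · exact hm2 (h6 m hm1)
  have h7 := (hgen r z hr hrp hz hrd fun v hv hvp => by rw [h3 v hv hvp, mul_one]).2
  have h8 : Nat.card {v : G // Commute z v ∧ ∃ k : ℕ, orderOf v = p ^ k} = 1 := by
    rw [Nat.card_eq_one_iff_unique]
    refine ⟨⟨fun v w => Subtype.ext ?_⟩, ⟨1, Commute.one_right z, 0, by simp⟩⟩
    rw [h3 v.1 v.2.1 v.2.2, h3 w.1 w.2.1 w.2.2]
  rw [h8] at h7
  exact_mod_cast h7

/-- The isolated prime attached to a cyclic Sylow subgroup `R` central in `C_G(z)`, `z ∈ R` of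
order `r`, `|C_G(z)|` prime to `p`. -/
theorem Iso.of_sylow [Finite G] {p r : ℕ} (hrp : r ≠ p) [hr : Fact r.Prime]
    (R : Sylow r G) (hcyc : IsCyclic (R : Subgroup G)) {z : G} (hz : orderOf z = r)
    (hzR : z ∈ (R : Subgroup G))
    (hC : Subgroup.centralizer ({z} : Set G) ≤ Subgroup.centralizer ((R : Subgroup G) : Set G))
    (hcop : Nat.Coprime p (Nat.card (Subgroup.centralizer ({z} : Set G))))
    (h4 : Nat.card (Subgroup.centralizer ({z} : Set G)) ≠ r ∨
      ∃ m : ℕ, ¬ r ∣ m ∧ ¬ IsConj z (z ^ m)) : Iso G p r := by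
  have hC' : ∀ y, Commute z y → ∀ t ∈ (R : Subgroup G), Commute t y := by
    intro y hy t ht
    have : y ∈ Subgroup.centralizer ({z} : Set G) :=
      Subgroup.mem_centralizer_singleton_iff.2 hy.symm
    exact Subgroup.mem_centralizer_iff.1 (hC this) t ht
  obtain ⟨h1, h2⟩ := central_sylow R hcyc hz hzR hC'
  refine ⟨hr.out, hrp, z, hz, h1, fun y hy _ => h2 y hy, ?_, h4⟩
  rintro v hv ⟨k, hk⟩
  have hvC : v ∈ Subgroup.centralizer ({z} : Set G) :=
    Subgroup.mem_centralizer_singleton_iff.2 hv.symm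
  have hdvd : orderOf v ∣ Nat.card (Subgroup.centralizer ({z} : Set G)) := by
    have := orderOf_dvd_natCard (⟨v, hvC⟩ : Subgroup.centralizer ({z} : Set G))
    rwa [Subgroup.orderOf_mk] at this
  rw [← orderOf_eq_one_iff, hk]
  rw [hk] at hdvd
  exact Nat.Coprime.eq_one_of_dvd (Nat.Coprime.pow_left k hcop) hdvd

end Cfsg.Agent.H732.VZ
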