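import Mathlib
import Cfsg.Agent.H732.VZ.Close
import Cfsg.Agent.H730.OZ.Top

/-!
# Congruences `Cong p r k G` of `H730.OZ.Top` from isolated primes and from constancy on `z K`

* `cong_of_iso : Iso G p r → Cong p r 0 G`;
* `cong_of_const` : `z` of order `r`; every irreducible character with exactly one class of zeros has
  degree prime to `r` and is constant on the products of `z` with the `p`-elements of `C_G(z)`:
  `Cong p r k G` if `C_G(z)` has `p ^ k` elements of `p`-power order, and `Cong p r (2 v) G`.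
-/

set_option autoImplicit false

namespace Cfsg.Agent.H732.VZ

open Cfsg Cfsg.Agent.Characters Cfsg.Agent.H686.CharKit Cfsg.Agent.H631.Kaw Cfsg.Agent.H730.OZ Finset

universe u

variable {G : Type u} [Group G] [Finite G]

omit [Finite G] in
theorem oneZero_iff {χ : G → ℂ} (hχ : IsIrrCharacter G χ) :
    OneZero χ ↔ ∃ x, One (⟨χ, hχ⟩ : IrrCharacter G) x :=
  ⟨fun ⟨x, h0, h1⟩ => ⟨x, h0, h1⟩, fun ⟨x, h⟩ => ⟨x, h.zero, h.uniq⟩⟩

/-- The basic congruence: the eigenvalue of the class sum of the `p`-elements is congruent modulo `r` to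
the number of `p`-elements of `C_G(z)`, and to the number of all `p`-elements. -/
theorem basic {p r : ℕ} (hp : p.Prime) (hr : r.Prime) (hrp : r ≠ p) {z : G} (hz : orderOf z = r)
    (χ : IrrCharacter G) (hrd : ¬ r ∣ charDegree (χ : G → ℂ))
    (hK : ∀ v, Commute z v → (∃ k, orderOf v = p ^ k) → (χ : G → ℂ) (z * v) = (χ : G → ℂ) z)
    {m : ℕ} {e : ℤ}
    (hs : ∑ᶠ u ∈ pSet p G, (χ : G → ℂ) u = (e : ℂ) * (p : ℂ) ^ m * (χ : G → ℂ) 1) :
    (r : ℤ) ∣ e * p ^ m - (pSet p G).ncard ∧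
    (r : ℤ) ∣ e * p ^ m - Nat.card {v : G // Commute z v ∧ ∃ k : ℕ, orderOf v = p ^ k} := by
  classical
  have := Fintype.ofFinite G
  have hm : ∑ g ∈ pel G p, (χ : G → ℂ) g = (e : ℂ) * (p : ℂ) ^ m * (χ : G → ℂ) 1 := by
    rw [sum_pel_eq, ← hs]
    rfl
  set s : G → ℤ := fun g => if g ∈ pel G p then 1 else 0 with hsdef
  have hs1 : ∀ g x : G, s (g * x * g⁻¹) = s x := by
    intro g y
    simp only [hsdef]
    have : g * y * g⁻¹ ∈ pel G p ↔ y ∈ pel G p := ⟨fun h => by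
      have := Kaw.conj_mem_pel g⁻¹ _ h
      have e : g⁻¹ * (g * y * g⁻¹) * g⁻¹⁻¹ = y := by group
      rwa [e] at this, Kaw.conj_mem_pel g y⟩
    simp only [this]
  have hs2 : ∀ g, s g ≠ 0 → g ∈ pel G p := by
    intro g hg
    by_contra hgp
    exact hg (by simp only [hsdef, if_neg hgp])
  have hs3 : ∀ g, s g ≠ 0 → ¬ r ∣ orderOf g := by
    intro g hg hd
    obtain ⟨k, hk⟩ := mem_pel.1 (hs2 g hg)
    rw [hk] at hd
    exact hrp ((Nat.prime_dvd_prime_iff_eq hr hp).1 (hr.dvd_of_dvd_pow hd))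
  have hsum : ∑ g, (s g : ℂ) * (χ : G → ℂ) g = ((e * p ^ m : ℤ) : ℂ) * (χ : G → ℂ) 1 := by
    push_cast
    rw [← hm]
    have : ∀ g : G, (s g : ℂ) * (χ : G → ℂ) g = if g ∈ pel G p then (χ : G → ℂ) g else 0 := by
      intro g
      simp only [hsdef]
      split_ifs <;> simp
    rw [Finset.sum_congr rfl fun g _ => this g, ← Finset.sum_filter]
    refine Finset.sum_congr ?_ fun _ _ => rfl
    ext g; simp
  have hc1 := congr hr hz s hs1 hs3 χ hsum (fun v hv hsv => hK v hv (mem_pel.1 (hs2 v hsv))) hrd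
  have hc2 := sum_modEq hr hz s hs1
  have hcardp : (pSet p G).ncard = (pel G p).card := by
    rw [← Set.ncard_coe_finset]
    congr 1
    ext g
    rw [Finset.mem_coe, mem_pel]
    rfl
  have htot : ∑ g, s g = ((pSet p G).ncard : ℤ) := by
    simp only [hsdef]
    rw [← Finset.sum_filter, Finset.sum_const, nsmul_eq_mul, mul_one, hcardp]
    have : (univ.filter fun g => g ∈ pel G p) = pel G p := by ext g; simp
    rw [this]
  have hcent : ∑ g ∈ univ.filter (Commute z), s g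
      = (Nat.card {v : G // Commute z v ∧ ∃ k : ℕ, orderOf v = p ^ k} : ℤ) := by
    simp only [hsdef]
    rw [← Finset.sum_filter, Finset.sum_const, nsmul_eq_mul, mul_one, Finset.filter_filter,
      Nat.card_eq_fintype_card, Fintype.card_subtype]
    congr 2
    ext g
    simp only [mem_filter, mem_univ, true_and, mem_pel]
  refine ⟨?_, ?_⟩
  · have := hc1.trans hc2.symm
    rw [htot] at this
    exact (Int.modEq_iff_dvd.1 this.symm)
  · rw [hcent] at hc1
    exact (Int.modEq_iff_dvd.1 hc1.symm)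

/-- The congruence for a character constant on the products of `z` with the `p`-elements of
`C_G(z)`. -/
theorem cong_of_const {p r k : ℕ} (hp : p.Prime) (hr : r.Prime) (hrp : r ≠ p) {z : G}
    (hz : orderOf z = r)
    (hk : Nat.card {v : G // Commute z v ∧ ∃ k : ℕ, orderOf v = p ^ k} = p ^ k)
    (h : ∀ (χ : IrrCharacter G) (x : G), One χ x → ¬ r ∣ charDegree (χ : G → ℂ) ∧
      ∀ v, Commute z v → (∃ k, orderOf v = p ^ k) → (χ : G → ℂ) (z * v) = (χ : G → ℂ) z) :
    Cong p r k G := by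
  intro χ hχ hO m e _ hs
  obtain ⟨x, hx⟩ := (oneZero_iff hχ).1 hO
  obtain ⟨h1, h2⟩ := h ⟨χ, hχ⟩ x hx
  have := (basic hp hr hrp hz ⟨χ, hχ⟩ h1 h2 hs).2
  rw [hk] at this
  exact_mod_cast this

/-- The same with the number of all `p`-elements. -/
theorem cong_of_const' {p r : ℕ} (hp : p.Prime) (hr : r.Prime) (hrp : r ≠ p) {z : G}
    (hz : orderOf z = r) (hcard : (pSet p G).ncard = p ^ (2 * (Nat.card G).factorization p))
    (h : ∀ (χ : IrrCharacter G) (x : G), One χ x → ¬ r ∣ charDegree (χ : G → ℂ) ∧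
      ∀ v, Commute z v → (∃ k, orderOf v = p ^ k) → (χ : G → ℂ) (z * v) = (χ : G → ℂ) z) :
    Cong p r (2 * (Nat.card G).factorization p) G := by
  intro χ hχ hO m e _ hs
  obtain ⟨x, hx⟩ := (oneZero_iff hχ).1 hO
  obtain ⟨h1, h2⟩ := h ⟨χ, hχ⟩ x hx
  have := (basic hp hr hrp hz ⟨χ, hχ⟩ h1 h2 hs).1
  rw [hcard] at this
  exact_mod_cast this

/-- An isolated prime does not divide the degree. -/
theorem Iso.not_dvd {p r : ℕ} (hI : Iso G p r) (χ : IrrCharacter G) (x : G) (h : One χ x) :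
    ¬ r ∣ charDegree (χ : G → ℂ) := by
  classical
  have := Fintype.ofFinite G
  obtain ⟨hr, hrp, z, hz, h1, h2, h3, h4⟩ := hI
  intro hd
  obtain ⟨h5, h6⟩ := dvd_cases h hr hz h1 h2 hd
  rcases h4 with h4 | ⟨m, hm1, hm2⟩
  · exact h4 h5
  · exact hm2 (h6 m hm1)

/-- **Isolated primes.** -/
theorem cong_of_iso {p r : ℕ} (hp : p.Prime) (hI : Iso G p r) : Cong p r 0 G := by
  have hI' := hI
  obtain ⟨hr, hrp, z, hz, h1, h2, h3, h4⟩ := hI
  refine cong_of_const hp hr hrp hz ?_ fun χ x hx => ⟨hI'.not_dvd χ x hx, fun v hv hvp => by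
    rw [h3 v hv hvp, mul_one]⟩
  rw [pow_zero, Nat.card_eq_one_iff_unique]
  refine ⟨⟨fun v w => Subtype.ext ?_⟩, ⟨1, Commute.one_right z, 0, by simp⟩⟩
  rw [h3 v.1 v.2.1 v.2.2, h3 w.1 w.2.1 w.2.2]

/-- `r ∤ χ(1)` for a cyclic Sylow subgroup `R ∋ z` with `C_G(z) ≤ C_G(R)`. -/
theorem not_dvd_of_sylow {r : ℕ} [hr : Fact r.Prime] (R : Sylow r G)
    (hcyc : IsCyclic (R : Subgroup G)) {z : G} (hz : orderOf z = r) (hzR : z ∈ (R : Subgroup G))
    (hC : Subgroup.centralizer ({z} : Set G) ≤ Subgroup.centralizer ((R : Subgroup G) : Set G))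
    (h4 : Nat.card (Subgroup.centralizer ({z} : Set G)) ≠ r ∨
      ∃ m : ℕ, ¬ r ∣ m ∧ ¬ IsConj z (z ^ m)) (χ : IrrCharacter G) (x : G) (h : One χ x) :
    ¬ r ∣ charDegree (χ : G → ℂ) := by
  classical
  have := Fintype.ofFinite G
  have hC' : ∀ y, Commute z y → ∀ t ∈ (R : Subgroup G), Commute t y := by
    intro y hy t ht
    have : y ∈ Subgroup.centralizer ({z} : Set G) :=
      Subgroup.mem_centralizer_singleton_iff.2 hy.symm
    exact Subgroup.mem_centralizer_iff.1 (hC this) t ht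
  obtain ⟨h1, h2⟩ := central_sylow R hcyc hz hzR hC'
  intro hd
  obtain ⟨h5, h6⟩ := dvd_cases h hr.out hz h1 (fun y hy _ => h2 y hy) hd
  rcases h4 with h4 | ⟨m, hm1, hm2⟩
  · exact h4 h5
  · exact hm2 (h6 m hm1)

end Cfsg.Agent.H732.VZ
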