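import Cfsg.Agent.H732.VZ.Bridge
import Cfsg.Agent.Characters.DegreeBounds

/-!
# One vanishing class: excess by elementary means

* `Ex χ Y e` : `χ` has no zeros on the Galois-stable set `Y` and `|Y| + e ≤ ∑_Y |χ|²`.
* `Ex.union`, `Ex.mul_le` : the excesses over disjoint sets add up to at most `|G| / |C_G(x)|`.
* `ex_rat` : the class of a rational `r`-element has excess `(r² - 1) |class|` if `r ∣ χ(1)`.
* `ex_central` : the same for elements with centralizer of index prime to `r`.
* `ex_two` : the set of all nonzero `2`-elements has excess `≥` its size if `χ(1)` is even.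
* `eq_zero_of_coprime` : Burnside.
* `sq_dvd_centralizer`, `exists_central` : Sylow arguments.
-/

set_option autoImplicit false

namespace Cfsg.Agent.H732.VZ

open Cfsg Cfsg.Agent.Characters Cfsg.Agent.CharactersDeep Cfsg.Agent.H686.CharKit Finset
open Cfsg.Agent.H695.OneZero (Gal)
open scoped ComplexConjugate

universe u

variable {G : Type u} [Group G] [Fintype G]

open scoped Classical in
/-- The conjugacy class of `g`. -/
noncomputable def cl (g : G) : Finset G := univ.filter fun y => IsConj g y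

theorem mem_cl {g y : G} : y ∈ cl g ↔ IsConj g y := by simp [cl]

theorem card_cl (g : G) :
    (cl g).card * Nat.card (Subgroup.centralizer ({g} : Set G)) = Nat.card G := by
  classical
  have h1 : (cl g).card = Nat.card {y : G // IsConj g y} := by
    rw [cl, ← Fintype.card_subtype, ← Nat.card_eq_fintype_card]
  rw [h1, ← CentralCharacter.index_centralizer_eq_card, mul_comm, Subgroup.card_mul_index]

theorem card_cl_pos (g : G) : 0 < (cl g).card := Finset.card_pos.2 ⟨g, mem_cl.2 (IsConj.refl g)⟩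

theorem cl_disjoint {g h : G} (hn : ¬ IsConj g h) : Disjoint (cl g) (cl h) := by
  rw [Finset.disjoint_left]
  intro y hy hy'
  exact hn ((mem_cl.1 hy).trans (mem_cl.1 hy').symm)

open scoped Classical in
/-- Excess of a character over a Galois-stable set without zeros. -/
structure Ex (χ : IrrCharacter G) (Y : Finset G) (e : ℕ) : Prop where
  gal : Gal Y
  ne : ∀ g ∈ Y, (χ : G → ℂ) g ≠ 0
  le : (Y.card : ℝ) + e ≤ ∑ g ∈ Y, Complex.normSq ((χ : G → ℂ) g)

open scoped Classical in
theorem Ex.union {χ : IrrCharacter G} {Y Y' : Finset G} {e e' : ℕ} (h : Ex χ Y e) (h' : Ex χ Y' e')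
    (hd : Disjoint Y Y') : Ex χ (Y ∪ Y') (e + e') := by
  refine ⟨h.gal.union h'.gal, fun g hg => ?_, ?_⟩
  · rcases mem_union.1 hg with hg | hg
    · exact h.ne g hg
    · exact h'.ne g hg
  · rw [Finset.sum_union hd, Finset.card_union_of_disjoint hd]
    push_cast
    linarith [h.le, h'.le]

/-- The excess is at most the number of zeros. -/
theorem Ex.mul_le {χ : IrrCharacter G} {Y : Finset G} {e : ℕ} (h : Ex χ Y e) {x : G} (hx : One χ x) :
    e * Nat.card (Subgroup.centralizer ({x} : Set G)) ≤ Nat.card G := by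
  classical
  have h1 := H695.OneZero.sum_le χ h.gal h.ne
  have h2 := h.le
  have h3 : (e : ℝ) ≤ ((univ.filter fun g : G => (χ : G → ℂ) g = 0).card : ℝ) := by linarith
  have h4 : e ≤ (univ.filter fun g : G => (χ : G → ℂ) g = 0).card := by exact_mod_cast h3
  rw [← card_zeros hx]
  exact Nat.mul_le_mul_right _ h4

theorem Ex.mono {χ : IrrCharacter G} {Y : Finset G} {e e' : ℕ} (h : Ex χ Y e) (he : e' ≤ e) :
    Ex χ Y e' := ⟨h.gal, h.ne, by
      have : (e' : ℝ) ≤ e := by exact_mod_cast he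
      linarith [h.le]⟩

/-- A rational element. -/
def RatEl (g : G) : Prop := ∀ m : ℕ, m.Coprime (Nat.card G) → IsConj g (g ^ m)

theorem RatEl.gal {g : G} (hg : RatEl g) : Gal (cl g) := by
  intro y hy m hm
  obtain ⟨c, rfl⟩ := isConj_iff.1 (mem_cl.1 hy)
  rw [mem_cl]
  refine (hg m hm).trans (isConj_iff.2 ⟨c, ?_⟩)
  rw [conj_pow]

theorem RatEl.exists_int {g : G} (hg : RatEl g) (χ : IrrCharacter G) : ∃ z : ℤ, (χ : G → ℂ) g = z := by
  refine GaloisBasic.exists_int_of_rat (Core.isIrr_isCharacter χ.2) g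
    ((GaloisBasic.exists_rat_iff (Core.isIrr_isCharacter χ.2) g).2 fun m hm => ?_)
  obtain ⟨c, hc⟩ := isConj_iff.1 (hg m hm)
  rw [← hc, Core.isIrr_isClassFunction χ.2 g c]

/-- Congruence of the values at `g` and at its `r'`-part `g ^ j`. -/
theorem av_sub_mem {r a j : ℕ} (hr : r.Prime) {M : Ideal AlgInt} (hM : M.IsPrime)
    (hrM : (r : AlgInt) ∈ M) (χ : IrrCharacter G) {g : G} (h : (g ^ j) ^ r ^ a = g ^ r ^ a) :
    av χ g - av χ (g ^ j) ∈ M := by
  obtain ⟨m, hm, hmv⟩ := BrauerLocal.congr_of_mem_achar hr hM hrM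
    (AChar.mem_achar_of_isCharacter (Core.isIrr_isCharacter χ.2)) g h
  have : av χ g - av χ (g ^ j) = m := by
    apply Subtype.ext
    rw [hmv]
    rfl
  rw [this]
  exact hm

/-- Integral values at `g` and at its `r'`-part are congruent modulo `r`. -/
theorem int_congr {r a j : ℕ} (hr : r.Prime) (χ : IrrCharacter G) {g : G}
    (h : (g ^ j) ^ r ^ a = g ^ r ^ a) {y z : ℤ} (hy : (χ : G → ℂ) (g ^ j) = y)
    (hz : (χ : G → ℂ) g = z) : (r : ℤ) ∣ z - y := by
  obtain ⟨M, hM', hrM⟩ := BrauerLocal.exists_maximal r hr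
  have hM : M.IsPrime := hM'.isPrime
  have h1 := av_sub_mem hr hM hrM χ h
  rw [← int_mem_iff hr hM hrM]
  convert h1 using 1
  apply Subtype.ext
  push_cast
  rw [av_coe, av_coe, hy, hz]

theorem charDegree_int (χ : IrrCharacter G) : (χ : G → ℂ) 1 = ((charDegree (χ : G → ℂ) : ℤ) : ℂ) := by
  rw [← charDegree_irr χ]
  push_cast
  rfl

/-- The value at a rational `r`-element is divisible by `r` if `r` divides the degree. -/
theorem RatEl.dvd {g : G} {r a : ℕ} (hr : r.Prime) (χ : IrrCharacter G)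
    (hd : r ∣ charDegree (χ : G → ℂ)) (hga : g ^ r ^ a = 1) {z : ℤ} (hz : (χ : G → ℂ) g = z) :
    (r : ℤ) ∣ z := by
  have h1 := int_congr (j := 0) (a := a) hr χ (g := g) (by rw [pow_zero, one_pow, hga])
    (by rw [pow_zero]; exact charDegree_int χ) hz
  have h2 : (r : ℤ) ∣ (charDegree (χ : G → ℂ) : ℤ) := by exact_mod_cast hd
  exact (dvd_sub_left h2).1 h1

/-- Excess of the class of a rational element with value divisible by `r`. -/
theorem ex_of_dvd {g : G} (hg : RatEl g) {r : ℕ} (χ : IrrCharacter G)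
    (hd : ∀ z : ℤ, (χ : G → ℂ) g = z → (r : ℤ) ∣ z) (h0 : (χ : G → ℂ) g ≠ 0) :
    Ex χ (cl g) ((r ^ 2 - 1) * (cl g).card) := by
  obtain ⟨z, hz⟩ := hg.exists_int χ
  have hrz := hd z hz
  have hz0 : z ≠ 0 := by
    rintro rfl
    exact h0 (by simpa using hz)
  have hconst : ∀ y ∈ cl g, (χ : G → ℂ) y = z := by
    intro y hy
    obtain ⟨c, rfl⟩ := isConj_iff.1 (mem_cl.1 hy)
    rw [Core.isIrr_isClassFunction χ.2 g c, hz]
  have hr0 : r ≠ 0 := by
    rintro rfl
    exact hz0 (by simpa using hrz)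
  refine ⟨hg.gal, fun y hy => by rw [hconst y hy]; exact_mod_cast hz0, ?_⟩
  rw [Finset.sum_congr rfl fun y hy => by rw [hconst y hy], Finset.sum_const, nsmul_eq_mul]
  have h1 : (r : ℤ) ^ 2 ≤ z ^ 2 := by
    obtain ⟨k, rfl⟩ := hrz
    have hk : k ≠ 0 := by
      rintro rfl
      simp at hz0
    have hk1 : 1 ≤ k ^ 2 := by
      have := sq_nonneg k
      rcases lt_or_eq_of_le this with h | h
      · omega
      · exact absurd (pow_eq_zero_iff (two_ne_zero)|>.1 h.symm) hk
    rw [mul_pow]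
    nlinarith [sq_nonneg (r : ℤ)]
  have h2 : Complex.normSq (z : ℂ) = ((z ^ 2 : ℤ) : ℝ) := by
    rw [Complex.normSq_intCast]
    push_cast
    ring
  rw [h2]
  have h3 : ((r ^ 2 : ℤ) : ℝ) ≤ ((z ^ 2 : ℤ) : ℝ) := by exact_mod_cast h1
  have h4 : (((r ^ 2 - 1 : ℕ) : ℕ) : ℝ) = (r : ℝ) ^ 2 - 1 := by
    rw [Nat.cast_sub (Nat.one_le_pow _ _ (Nat.pos_of_ne_zero hr0))]
    push_cast
    ring
  push_cast at h3 ⊢
  rw [h4]
  have h5 : (0 : ℝ) ≤ (cl g).card := Nat.cast_nonneg _
  nlinarith

/-- Excess of the class of a rational `r`-element if `r ∣ χ(1)`. -/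
theorem ex_rat {g : G} (hg : RatEl g) {r a : ℕ} (hr : r.Prime) (χ : IrrCharacter G)
    (hd : r ∣ charDegree (χ : G → ℂ)) (hga : g ^ r ^ a = 1) (h0 : (χ : G → ℂ) g ≠ 0) :
    Ex χ (cl g) ((r ^ 2 - 1) * (cl g).card) :=
  ex_of_dvd hg χ (fun _ hz => RatEl.dvd hr χ hd hga hz) h0

/-- Excess of a set of elements with centralizers of index prime to `r` if `r ∣ χ(1)`. -/
theorem ex_central {Y : Finset G} (hY : Gal Y) {r : ℕ} (hr : r.Prime) (χ : IrrCharacter G)
    (hd : r ∣ charDegree (χ : G → ℂ))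
    (hc : ∀ g ∈ Y, ¬ r ∣ (Subgroup.centralizer ({g} : Set G)).index)
    (h0 : ∀ g ∈ Y, (χ : G → ℂ) g ≠ 0) : Ex χ Y ((r ^ 2 - 1) * Y.card) := by
  classical
  refine ⟨hY, h0, ?_⟩
  have h1 := card_mul_le χ hY h0 hr.pos fun g hg => isIntegral_div χ hr hd (hc g hg)
  have h4 : (((r ^ 2 - 1 : ℕ) : ℕ) : ℝ) = (r : ℝ) ^ 2 - 1 := by
    rw [Nat.cast_sub (Nat.one_le_pow _ _ hr.pos)]
    push_cast
    ring
  push_cast
  rw [h4]
  linarith

theorem charDegree_dvd_card [Finite G] (χ : IrrCharacter G) :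
    charDegree (χ : G → ℂ) ∣ Nat.card G := by
  obtain ⟨n, ρ, hρ, hχ⟩ := χ.2
  have h1 := DegreeBounds.finrank_dvd_card ρ
  have h2 : charDegree (χ : G → ℂ) = Module.finrank ℂ (Fin n → ℂ) := by
    have : (charDegree (χ : G → ℂ) : ℂ) = (Module.finrank ℂ (Fin n → ℂ) : ℂ) := by
      rw [charDegree_irr χ, ← hχ, Representation.char_one]
    exact_mod_cast this
  rw [h2]
  exact h1

section Two

/-- The number of pairs with equal images has the parity of the number of elements. -/
theorem parity {α β : Type*} [Fintype α] [DecidableEq α] [DecidableEq β] (f : α → β) :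
    (((univ.filter fun p : α × α => f p.1 = f p.2).card : ℕ) : ZMod 2) = Fintype.card α := by
  set S := univ.filter fun p : α × α => f p.1 = f p.2 with hS
  have h1 := Finset.card_filter_add_card_filter_not (s := S) (fun p : α × α => p.1 = p.2)
  have h2 : (S.filter fun p : α × α => p.1 = p.2).card = Fintype.card α := by
    rw [← Finset.card_univ]
    symm
    refine Finset.card_bij (fun a _ => (a, a)) (fun a _ => ?_) (fun a _ b _ h => (Prod.ext_iff.1 h).1)
      fun p hp => ?_
    · simp [hS]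
    · rw [mem_filter] at hp
      exact ⟨p.1, mem_univ _, Prod.ext rfl hp.2⟩
  have h3 : (((S.filter fun p : α × α => ¬ p.1 = p.2).card : ℕ) : ZMod 2) = 0 := by
    rw [Finset.card_eq_sum_ones, Nat.cast_sum]
    refine Finset.sum_involution (fun p _ => Prod.swap p) (fun p _ => by
      push_cast
      decide) (fun p hp _ h => ?_) (fun p hp => ?_) (fun p _ => Prod.swap_swap p)
    · rw [mem_filter] at hp
      exact hp.2 (congrArg Prod.snd h)
    · rw [mem_filter, hS, mem_filter] at hp ⊢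
      exact ⟨⟨mem_univ _, hp.1.2.symm⟩, fun h => hp.2 h.symm⟩
  rw [← h1, Nat.cast_add, h2, h3, add_zero]

theorem sum_range_two_mul (f : ℕ → ℂ) (m : ℕ) :
    ∑ j ∈ range (2 * m), f j = ∑ k ∈ range m, f (2 * k) + ∑ k ∈ range m, f (2 * k + 1) := by
  induction m with
  | zero => simp
  | succ m ih =>
    rw [show 2 * (m + 1) = 2 * m + 1 + 1 by ring, Finset.sum_range_succ, Finset.sum_range_succ, ih,
      Finset.sum_range_succ, Finset.sum_range_succ]
    ring

theorem geom_root {ν : ℂ} {n : ℕ} (h : ν ^ n = 1) :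
    ∑ j ∈ range n, ν ^ j = if ν = 1 then (n : ℂ) else 0 := by
  split_ifs with h1
  · simp [h1]
  · have := mul_geom_sum ν n
    rw [h, sub_self] at this
    exact (mul_eq_zero.1 this).resolve_left (sub_ne_zero.2 h1)

/-- The mean of `|χ|²` over the odd powers of a `2`-element is an integer of the parity of `χ(1)`. -/
theorem odd_sum (χ : IrrCharacter G) (g : G) {m : ℕ} (hm : m ≠ 0) (hg : g ^ (2 * m) = 1) :
    ∃ T : ℤ, ∑ k ∈ range m, Complex.normSq ((χ : G → ℂ) (g ^ (2 * k + 1))) = (m : ℝ) * T ∧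
      ((T : ℤ) : ZMod 2) = (charDegree (χ : G → ℂ) : ZMod 2) := by
  classical
  obtain ⟨d, μ, hd, hμ, hpow⟩ := GaloisBasic.isCharacter_exists_fin_pow
    (Core.isIrr_isCharacter χ.2) g (n := 2 * m) (by omega) hg
  have hconj : ∀ i, conj (μ i) * μ i = 1 := by
    intro i
    have h1 : ‖μ i‖ = 1 := Complex.norm_eq_one_of_pow_eq_one (hμ i) (by omega)
    rw [mul_comm, Complex.mul_conj, Complex.normSq_eq_norm_sq, h1]
    simp
  set S1 := univ.filter fun p : Fin d × Fin d => μ p.1 = μ p.2 with hS1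
  set S2 := univ.filter fun p : Fin d × Fin d => (μ p.1) ^ 2 = (μ p.2) ^ 2 with hS2
  refine ⟨2 * S1.card - S2.card, ?_, ?_⟩
  · have h0 : ∀ j : ℕ, ((Complex.normSq ((χ : G → ℂ) (g ^ j)) : ℝ) : ℂ)
        = ∑ p : Fin d × Fin d, (μ p.1 * conj (μ p.2)) ^ j := by
      intro j
      rw [← Complex.mul_conj, hpow, map_sum, Finset.sum_mul_sum, ← Finset.univ_product_univ,
        Finset.sum_product]
      refine Finset.sum_congr rfl fun a _ => Finset.sum_congr rfl fun b _ => ?_
      rw [mul_pow, map_pow]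
    have hν : ∀ p : Fin d × Fin d, (μ p.1 * conj (μ p.2)) ^ (2 * m) = 1 := by
      intro p
      rw [mul_pow, hμ, ← map_pow, hμ, map_one, one_mul]
    have hodd : ∀ p : Fin d × Fin d, ∑ k ∈ range m, (μ p.1 * conj (μ p.2)) ^ (2 * k + 1)
        = (if μ p.1 * conj (μ p.2) = 1 then ((2 * m : ℕ) : ℂ) else 0)
          - (if (μ p.1 * conj (μ p.2)) ^ 2 = 1 then (m : ℂ) else 0) := by
      intro p
      have h1 := sum_range_two_mul (fun j => (μ p.1 * conj (μ p.2)) ^ j) m
      rw [geom_root (hν p)] at h1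
      have h2 : ∑ k ∈ range m, (μ p.1 * conj (μ p.2)) ^ (2 * k)
          = if (μ p.1 * conj (μ p.2)) ^ 2 = 1 then (m : ℂ) else 0 := by
        rw [← geom_root (n := m) (by rw [← pow_mul, hν p])]
        exact Finset.sum_congr rfl fun k _ => by rw [pow_mul]
      rw [h1, ← h2]
      ring
    have hC : ((∑ k ∈ range m, Complex.normSq ((χ : G → ℂ) (g ^ (2 * k + 1))) : ℝ) : ℂ)
        = (((m : ℝ) * ((2 * S1.card - S2.card : ℤ) : ℝ) : ℝ) : ℂ) := by
      rw [Complex.ofReal_sum]
      rw [Finset.sum_congr rfl fun k _ => h0 (2 * k + 1), Finset.sum_comm,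
        Finset.sum_congr rfl fun p _ => hodd p, Finset.sum_sub_distrib, ← Finset.sum_filter,
        ← Finset.sum_filter, Finset.sum_const, Finset.sum_const]
      have e1 : (univ.filter fun p : Fin d × Fin d => μ p.1 * conj (μ p.2) = 1) = S1 := by
        ext p
        simp only [mem_filter, mem_univ, true_and, hS1]
        constructor
        · intro h
          calc μ p.1 = μ p.1 * (conj (μ p.2) * μ p.2) := by rw [hconj, mul_one]
            _ = (μ p.1 * conj (μ p.2)) * μ p.2 := by ring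
            _ = μ p.2 := by rw [h, one_mul]
        · intro h
          rw [h, mul_comm, hconj]
      have e2 : (univ.filter fun p : Fin d × Fin d => (μ p.1 * conj (μ p.2)) ^ 2 = 1) = S2 := by
        ext p
        simp only [mem_filter, mem_univ, true_and, hS2]
        constructor
        · intro h
          calc μ p.1 ^ 2 = μ p.1 ^ 2 * (conj (μ p.2) * μ p.2) ^ 2 := by rw [hconj, one_pow, mul_one]
            _ = (μ p.1 * conj (μ p.2)) ^ 2 * μ p.2 ^ 2 := by ring
            _ = μ p.2 ^ 2 := by rw [h, one_mul]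
        · intro h
          rw [mul_pow, h, ← mul_pow, mul_comm, hconj, one_pow]
      rw [e1, e2]
      push_cast
      simp only [nsmul_eq_mul]
      ring
    exact_mod_cast hC
  · have h1 := parity (fun i : Fin d => (μ i) ^ 2)
    have h2 : (charDegree (χ : G → ℂ)) = d := by
      have : (charDegree (χ : G → ℂ) : ℂ) = d := by rw [charDegree_irr χ, hd]
      exact_mod_cast this
    rw [h2]
    rw [Fintype.card_fin] at h1
    have h3 : (2 : ZMod 2) = 0 := by decide
    push_cast
    rw [h3, zero_mul, zero_sub, CharTwo.neg_eq]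
    exact h1

/-- Lifting an exponent prime to `n ∣ N` to one prime to `N`. -/
theorem exists_coprime_lift' {n N : ℕ} (hN : N ≠ 0) (hn : n ∣ N) {m : ℕ} (hm : m.Coprime n) :
    ∃ k : ℕ, k.Coprime N ∧ k ≡ m [MOD n] := by
  have : NeZero N := ⟨hN⟩
  obtain ⟨u, hu⟩ := ZMod.unitsMap_surjective hn (ZMod.unitOfCoprime m hm)
  refine ⟨(u : ZMod N).val, ZMod.val_coe_unit_coprime u, ?_⟩
  rw [← ZMod.natCast_eq_natCast_iff]
  have h1 := congrArg (fun v : (ZMod n)ˣ => (v : ZMod n)) hu
  simp only [ZMod.unitsMap_val, ZMod.coe_unitOfCoprime] at h1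
  rw [← h1, ZMod.natCast_val]

/-- Excess of a set of `2`-elements without zeros if `χ(1)` is even. -/
theorem ex_two {Y : Finset G} (hY : Gal Y) (χ : IrrCharacter G)
    (hd : 2 ∣ charDegree (χ : G → ℂ)) (h2 : ∀ g ∈ Y, ∃ k : ℕ, orderOf g = 2 ^ k)
    (h0 : ∀ g ∈ Y, (χ : G → ℂ) g ≠ 0) : Ex χ Y Y.card := by
  classical
  refine ⟨hY, h0, ?_⟩
  rcases Y.eq_empty_or_nonempty with rfl | hne
  · simp
  have hN : Nat.card G ≠ 0 := Nat.card_pos.ne'
  -- `2` divides the group order
  have h2G : 2 ∣ Nat.card G := hd.trans (by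
    have := charDegree_dvd_card χ
    exact this)
  obtain ⟨a, ha⟩ : ∃ a, (Nat.card G).factorization 2 = a + 1 := by
    have : (Nat.card G).factorization 2 ≠ 0 := by
      have := (Nat.Prime.factorization_pos_of_dvd Nat.prime_two hN h2G)
      omega
    exact ⟨_, (Nat.succ_pred_eq_of_ne_zero this).symm⟩
  set m := 2 ^ a with hmdef
  have hm0 : m ≠ 0 := by positivity
  have hmN : 2 * m ∣ Nat.card G := by
    rw [hmdef, ← pow_succ', ← ha]
    exact Nat.ordProj_dvd _ _
  have hpow : ∀ g ∈ Y, g ^ (2 * m) = 1 := by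
    intro g hg
    obtain ⟨k, hk⟩ := h2 g hg
    rw [← orderOf_dvd_iff_pow_eq_one, hk, hmdef, ← pow_succ', ← ha]
    refine pow_dvd_pow 2 ?_
    rw [← Nat.Prime.pow_dvd_iff_le_factorization Nat.prime_two hN, ← hk]
    exact orderOf_dvd_natCard g
  -- odd powers permute `Y`
  have hperm : ∀ j : ℕ, ∑ g ∈ Y, Complex.normSq ((χ : G → ℂ) (g ^ (2 * j + 1)))
      = ∑ g ∈ Y, Complex.normSq ((χ : G → ℂ) g) := by
    intro j
    have hcop : (2 * j + 1).Coprime (2 * m) := by
      rw [hmdef, ← pow_succ']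
      refine Nat.Coprime.pow_right _ ?_
      exact Nat.coprime_two_right.2 ⟨j, rfl⟩
    obtain ⟨k, hk1, hk2⟩ := exists_coprime_lift' hN hmN hcop
    rw [← hY.sum_pow hk1 fun g => Complex.normSq ((χ : G → ℂ) g)]
    refine Finset.sum_congr rfl fun g hg => ?_
    have : g ^ k = g ^ (2 * j + 1) :=
      pow_eq_pow_iff_modEq.2 (hk2.of_dvd (orderOf_dvd_of_pow_eq_one (hpow g hg)))
    rw [this]
  have hmain : (m : ℝ) * ∑ g ∈ Y, Complex.normSq ((χ : G → ℂ) g) ≥ (m : ℝ) * (2 * Y.card) := by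
    have h1 : (m : ℝ) * ∑ g ∈ Y, Complex.normSq ((χ : G → ℂ) g)
        = ∑ g ∈ Y, ∑ k ∈ range m, Complex.normSq ((χ : G → ℂ) (g ^ (2 * k + 1))) := by
      rw [Finset.sum_comm, Finset.sum_congr rfl fun k _ => hperm k, Finset.sum_const, card_range,
        nsmul_eq_mul]
    rw [h1]
    have h3 : ∑ g ∈ Y, ∑ k ∈ range m, Complex.normSq ((χ : G → ℂ) (g ^ (2 * k + 1)))
        ≥ ∑ g ∈ Y, (m : ℝ) * 2 := by
      refine Finset.sum_le_sum fun g hg => ?_
      obtain ⟨T, hT1, hT2⟩ := odd_sum χ g hm0 (hpow g hg)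
      rw [hT1]
      have hpos : 0 < ∑ k ∈ range m, Complex.normSq ((χ : G → ℂ) (g ^ (2 * k + 1))) := by
        refine Finset.sum_pos' (fun k _ => Complex.normSq_nonneg _) ⟨0, mem_range.2 (Nat.pos_of_ne_zero hm0), ?_⟩
        rw [mul_zero, zero_add, pow_one]
        exact Complex.normSq_pos.2 (h0 g hg)
      rw [hT1] at hpos
      have hmR : (0 : ℝ) < m := by exact_mod_cast Nat.pos_of_ne_zero hm0
      have hTpos : (0 : ℝ) < T := by
        by_contra hcon
        push Not at hcon
        exact absurd hpos (not_lt.2 (mul_nonpos_of_nonneg_of_nonpos hmR.le hcon))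
      have hTpos' : 0 < T := by exact_mod_cast hTpos
      have hTeven : (2 : ℤ) ∣ T := by
        rw [(ZMod.natCast_eq_zero_iff (charDegree (χ : G → ℂ)) 2).2 hd] at hT2
        exact_mod_cast (ZMod.intCast_zmod_eq_zero_iff_dvd T 2).1 hT2
      have hT2' : (2 : ℤ) ≤ T := Int.le_of_dvd hTpos' hTeven
      have : (2 : ℝ) ≤ T := by exact_mod_cast hT2'
      exact mul_le_mul_of_nonneg_left this hmR.le
    refine le_trans (le_of_eq ?_) h3
    rw [Finset.sum_const, nsmul_eq_mul]
    ring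
  have hmR : (0 : ℝ) < m := by exact_mod_cast Nat.pos_of_ne_zero hm0
  have := le_of_mul_le_mul_left hmain hmR
  linarith

end Two

section Burnside

omit [Fintype G]
variable [Finite G]

/-- The central character value at an element with class size prime to a divisor `n` of the
degree. -/
theorem isIntegral_div' (χ : IrrCharacter G) {n : ℕ} (hn : n ∣ charDegree (χ : G → ℂ)) {g : G}
    (hg : Nat.Coprime (Subgroup.centralizer ({g} : Set G)).index n) :
    IsIntegral ℤ ((χ : G → ℂ) g / n) := by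
  obtain ⟨d, hd⟩ := hn
  have hdn : n * d ≠ 0 := by
    rw [← hd]
    exact (charDegree_pos χ).ne'
  have hrC : (n : ℂ) ≠ 0 := by exact_mod_cast left_ne_zero_of_mul hdn
  have hd0 : (d : ℂ) ≠ 0 := by exact_mod_cast right_ne_zero_of_mul hdn
  have h1 : IsIntegral ℤ (((Subgroup.centralizer ({g} : Set G)).index : ℂ) * (χ : G → ℂ) g
      / (χ : G → ℂ) 1) := by
    obtain ⟨n, ρ, hρ, hχ⟩ := χ.2
    have := CentralCharacter.isIntegral_index_mul_character_div ρ g
    have hfin : (Module.finrank ℂ (Fin n → ℂ) : ℂ) = (χ : G → ℂ) 1 := by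
      rw [← hχ, Representation.char_one]
    rw [hfin, hχ] at this
    exact this
  have h2 : IsIntegral ℤ (((Subgroup.centralizer ({g} : Set G)).index : ℂ)
      * ((χ : G → ℂ) g / n)) := by
    have h3 : ((Subgroup.centralizer ({g} : Set G)).index : ℂ) * ((χ : G → ℂ) g / n)
        = (d : ℂ) * (((Subgroup.centralizer ({g} : Set G)).index : ℂ) * (χ : G → ℂ) g
          / (χ : G → ℂ) 1) := by
      rw [← charDegree_irr χ, hd]
      push_cast
      field_simp
    rw [h3]
    have hdI : IsIntegral ℤ (d : ℂ) := by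
      simpa using isIntegral_algebraMap (R := ℤ) (A := ℂ) (x := (d : ℤ))
    exact hdI.mul h1
  have h4 : IsIntegral ℤ ((n : ℂ) * ((χ : G → ℂ) g / n)) := by
    rw [mul_div_cancel₀ _ hrC]
    exact GaloisBasic.isIntegral_apply (Core.isIrr_isCharacter χ.2) g
  obtain ⟨a, b, hab⟩ := Nat.isCoprime_iff_coprime.2 hg
  have habC : (a : ℂ) * ((Subgroup.centralizer ({g} : Set G)).index : ℂ) + b * n = 1 := by
    exact_mod_cast hab
  have hI : ∀ a : ℤ, IsIntegral ℤ (a : ℂ) := fun a => by
    simpa using isIntegral_algebraMap (R := ℤ) (A := ℂ) (x := a)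
  have h5 : (χ : G → ℂ) g / n = a * (((Subgroup.centralizer ({g} : Set G)).index : ℂ)
      * ((χ : G → ℂ) g / n)) + b * ((n : ℂ) * ((χ : G → ℂ) g / n)) := by
    linear_combination (-((χ : G → ℂ) g / n)) * habC
  rw [h5]
  exact ((hI a).mul h2).add ((hI b).mul h4)

/-- **Burnside**: an irreducible character of a nonabelian simple group which has a zero vanishes at
every nontrivial element with class size prime to the degree. -/
theorem eq_zero_of_coprime [IsSimpleGroup G] (hna : ¬ IsMulCommutative G) (χ : IrrCharacter G)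
    {x : G} (hx : (χ : G → ℂ) x = 0) {g : G} (hg : g ≠ 1)
    (hcop : Nat.Coprime (Subgroup.centralizer ({g} : Set G)).index (charDegree (χ : G → ℂ))) :
    (χ : G → ℂ) g = 0 := by
  have := Fintype.ofFinite G
  have : NeZero (Nat.card G) := ⟨Nat.card_pos.ne'⟩
  by_contra h
  have hd0 := charDegree_pos χ
  have hint := isIntegral_div' χ dvd_rfl hcop
  have h1 := le_sum_norm_sq_mul χ h hd0 fun m hm => by
    obtain ⟨σ, hσ⟩ := GaloisBasic.exists_ringEquiv_of_coprime (G := G) hm
    have h2 : (χ : G → ℂ) (g ^ m) / (charDegree (χ : G → ℂ) : ℂ)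
        = σ ((χ : G → ℂ) g / (charDegree (χ : G → ℂ) : ℂ)) := by
      rw [map_div₀, map_natCast, hσ _ (Core.isIrr_isCharacter χ.2) g]
    rw [h2]
    exact hint.map σ.toRingHom.toIntAlgHom
  have h3 : ∑ m : (ZMod (Nat.card G))ˣ,
      Complex.normSq ((χ : G → ℂ) (g ^ (m : ZMod (Nat.card G)).val))
      < ∑ _m : (ZMod (Nat.card G))ˣ, (charDegree (χ : G → ℂ) : ℝ) ^ 2 := by
    refine Finset.sum_lt_sum_of_nonempty ⟨1, mem_univ _⟩ fun m _ => ?_
    have hgm : g ^ (m : ZMod (Nat.card G)).val ≠ 1 := by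
      intro h4
      have h5 := (ZMod.val_coe_unit_coprime m).coprime_dvd_right (orderOf_dvd_natCard g)
      have h6 : orderOf g ∣ (m : ZMod (Nat.card G)).val := orderOf_dvd_of_pow_eq_one h4
      have h7 := Nat.eq_one_of_dvd_coprimes h5 h6 dvd_rfl
      exact hg (orderOf_eq_one_iff.1 h7)
    have h4 := norm_ne hna χ hx hgm
    have h5 : ‖(χ : G → ℂ) (g ^ (m : ZMod (Nat.card G)).val)‖ ≤ charDegree (χ : G → ℂ) :=
      SchurBound.norm_le (Core.isIrr_isCharacter χ.2) (charDegree_irr χ).symm _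
    have h6 := lt_of_le_of_ne h5 h4
    rw [Complex.normSq_eq_norm_sq]
    exact pow_lt_pow_left₀ h6 (norm_nonneg _) two_ne_zero
  rw [Finset.sum_const, nsmul_eq_mul, Finset.card_univ] at h3
  linarith

/-- An element of order `r` centralized by a Sylow `r`-subgroup. -/
theorem exists_central {r : ℕ} (hr : r.Prime) (hrG : r ∣ Nat.card G) :
    ∃ g : G, orderOf g = r ∧ ¬ r ∣ (Subgroup.centralizer ({g} : Set G)).index := by
  have : Fact r.Prime := ⟨hr⟩
  obtain ⟨P⟩ := (inferInstance : Nonempty (Sylow r G))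
  have hPne : Nontrivial (P : Subgroup G) := by
    rw [← Finite.one_lt_card_iff_nontrivial, P.card_eq_multiplicity]
    exact Nat.one_lt_pow (Nat.Prime.factorization_pos_of_dvd hr Nat.card_pos.ne' hrG).ne' hr.one_lt
  have hZ := P.2.center_nontrivial
  have hZp : IsPGroup r (Subgroup.center (P : Subgroup G)) := P.2.to_subgroup _
  obtain ⟨n, hn0, hn⟩ := hZp.nontrivial_iff_card.1 hZ
  obtain ⟨z, hz⟩ := exists_prime_orderOf_dvd_card' (G := Subgroup.center (P : Subgroup G)) r
    (hn ▸ dvd_pow_self r hn0.ne')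
  refine ⟨((z : (P : Subgroup G)) : G), ?_, ?_⟩
  · rw [Subgroup.orderOf_coe, Subgroup.orderOf_coe, hz]
  · have hle : (P : Subgroup G) ≤ Subgroup.centralizer ({((z : (P : Subgroup G)) : G)} : Set G) := by
      intro y hy
      rw [Subgroup.mem_centralizer_singleton_iff]
      have h1 := Subgroup.mem_center_iff.1 z.2 ⟨y, hy⟩
      exact congrArg Subtype.val h1
    intro h
    exact P.not_dvd_index (h.trans (Subgroup.index_dvd_of_le hle))

/-- An `r`-element has a centralizer of order divisible by `r²` if `r²` divides the group order. -/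
theorem sq_dvd_centralizer {r : ℕ} (hr : r.Prime) (h2 : r ^ 2 ∣ Nat.card G) {x : G}
    (hx1 : x ≠ 1) (hx : ∃ k : ℕ, orderOf x = r ^ k) :
    r ^ 2 ∣ Nat.card (Subgroup.centralizer ({x} : Set G)) := by
  have : Fact r.Prime := ⟨hr⟩
  obtain ⟨k, hk⟩ := hx
  have hxP : IsPGroup r (Subgroup.zpowers x) := IsPGroup.of_card (n := k) (by
    rw [Nat.card_zpowers, hk])
  obtain ⟨P, hP⟩ := hxP.exists_le_sylow
  set C := Subgroup.centralizer ({x} : Set G) with hC
  have hxC : Subgroup.zpowers x ≤ C := by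
    rw [Subgroup.zpowers_le, hC, Subgroup.mem_centralizer_singleton_iff]
  set Z := (Subgroup.center (P : Subgroup G)).map (P : Subgroup G).subtype with hZ
  have hZP : Z ≤ P := by
    rintro _ ⟨z, -, rfl⟩
    exact z.2
  have hZC : Z ≤ C := by
    rintro _ ⟨z, hz, rfl⟩
    rw [hC, Subgroup.mem_centralizer_singleton_iff]
    have h1 := Subgroup.mem_center_iff.1 hz ⟨x, hP (Subgroup.mem_zpowers x)⟩
    exact (congrArg Subtype.val h1).symm
  have hH : IsPGroup r ((P : Subgroup G) ⊓ C : Subgroup G) := P.2.to_le inf_le_left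
  obtain ⟨n, hn⟩ := IsPGroup.iff_card.1 hH
  have hHC : Nat.card ((P : Subgroup G) ⊓ C : Subgroup G) ∣ Nat.card C :=
    Subgroup.card_dvd_of_le inf_le_right
  rw [hn] at hHC
  rcases Nat.lt_or_ge n 2 with hn2 | hn2
  swap
  · exact (pow_dvd_pow r hn2).trans hHC
  exfalso
  -- the centralizer in `P` has order at most `r`
  have hcard : Nat.card ((P : Subgroup G) ⊓ C : Subgroup G) ≤ r := by
    rw [hn]
    calc r ^ n ≤ r ^ 1 := Nat.pow_le_pow_right hr.pos (by omega)
      _ = r := pow_one r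
  have hrx : r ∣ Nat.card (Subgroup.zpowers x) := by
    rw [Nat.card_zpowers, hk]
    refine dvd_pow_self r ?_
    rintro rfl
    exact hx1 (orderOf_eq_one_iff.1 (by rw [hk, pow_zero]))
  have hrG : r ∣ Nat.card G := (dvd_pow_self r two_ne_zero).trans h2
  have hPne : Nontrivial (P : Subgroup G) := by
    rw [← Finite.one_lt_card_iff_nontrivial, P.card_eq_multiplicity]
    exact Nat.one_lt_pow (Nat.Prime.factorization_pos_of_dvd hr Nat.card_pos.ne' hrG).ne' hr.one_lt
  have hrZ : r ∣ Nat.card Z := by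
    have hZn := P.2.center_nontrivial
    have hZp : IsPGroup r (Subgroup.center (P : Subgroup G)) := P.2.to_subgroup _
    obtain ⟨l, hl0, hl⟩ := hZp.nontrivial_iff_card.1 hZn
    have : Nat.card Z = Nat.card (Subgroup.center (P : Subgroup G)) :=
      Nat.card_congr (Subgroup.equivMapOfInjective _ _ (Subgroup.subtype_injective _)).toEquiv.symm
    rw [this, hl]
    exact dvd_pow_self r hl0.ne'
  have e1 : Subgroup.zpowers x = (P : Subgroup G) ⊓ C :=
    Subgroup.eq_of_le_of_card_ge (le_inf hP hxC) (hcard.trans (Nat.le_of_dvd Nat.card_pos hrx))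
  have e2 : Z = (P : Subgroup G) ⊓ C :=
    Subgroup.eq_of_le_of_card_ge (le_inf hZP hZC) (hcard.trans (Nat.le_of_dvd Nat.card_pos hrZ))
  have hxZ : x ∈ Z := by
    rw [e2, ← e1]
    exact Subgroup.mem_zpowers x
  obtain ⟨z, hz, hzx⟩ := hxZ
  have hPC : (P : Subgroup G) ≤ (P : Subgroup G) ⊓ C := by
    refine le_inf le_rfl fun y hy => ?_
    rw [hC, Subgroup.mem_centralizer_singleton_iff]
    have h1 := Subgroup.mem_center_iff.1 hz ⟨y, hy⟩
    rw [← hzx]
    exact congrArg Subtype.val h1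
  have h3 : Nat.card (P : Subgroup G) ∣ r ^ n := by
    rw [← hn]
    exact Subgroup.card_dvd_of_le hPC
  have h4 : r ^ 2 ∣ Nat.card (P : Subgroup G) := by
    rw [P.card_eq_multiplicity]
    exact pow_dvd_pow r ((Nat.Prime.pow_dvd_iff_le_factorization hr Nat.card_pos.ne').1 h2)
  have h5 := h4.trans h3
  rw [Nat.pow_dvd_pow_iff_le_right hr.one_lt] at h5
  omega

end Burnside

end Cfsg.Agent.H732.VZ
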