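import Mathlib
import Cfsg.Agent.H732.VZ.Bridge
import Cfsg.Agent.H695.OneZero.KConst

/-!
# `Cong p r k G` from a cyclic Sylow subgroup `R` with `C_G(R) = T × K`, `K` perfect

* `ne_zero_of_not_isConj` : if `z` is not conjugate to some `z ^ m` then the zeros of a character with exactly one
  class of zeros have no `r`-part `z`;
* `cong_kc` : the congruence.
-/

set_option autoImplicit false

namespace Cfsg.Agent.H732.VZ

open Cfsg Cfsg.Agent.Characters Cfsg.Agent.H686.CharKit Cfsg.Agent.H631.Kaw Cfsg.Agent.H730.OZ Finset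

universe u

variable {G : Type u} [Group G] [Finite G]

omit [Finite G] in
/-- Taking `r`-parts in a conjugacy. -/
theorem isConj_part {r : ℕ} {z z' k k' : G} (hz : Commute z k) (hz' : Commute z' k')
    (hr1 : z ^ r = 1) (hr1' : z' ^ r = 1) {n : ℕ} (hn : k ^ n = 1) (hn' : k' ^ n = 1)
    (hcop : Nat.Coprime r n) (h : IsConj (z * k) (z' * k')) : IsConj z z' := by
  obtain ⟨t, ht1, ht2⟩ := Nat.chineseRemainder hcop 1 0
  obtain ⟨c, hc⟩ := isConj_iff.1 h
  have e1 : (z * k) ^ t = z := by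
    rw [hz.mul_pow]
    have a1 : z ^ t = z := by
      conv_rhs => rw [← pow_one z]
      exact pow_eq_pow_iff_modEq.2 (ht1.of_dvd (orderOf_dvd_of_pow_eq_one hr1))
    have a2 : k ^ t = 1 := by
      rw [← orderOf_dvd_iff_pow_eq_one]
      exact (orderOf_dvd_of_pow_eq_one hn).trans ((Nat.modEq_zero_iff_dvd).1 ht2)
    rw [a1, a2, mul_one]
  have e2 : (z' * k') ^ t = z' := by
    rw [hz'.mul_pow]
    have a1 : z' ^ t = z' := by
      conv_rhs => rw [← pow_one z']
      exact pow_eq_pow_iff_modEq.2 (ht1.of_dvd (orderOf_dvd_of_pow_eq_one hr1'))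
    have a2 : k' ^ t = 1 := by
      rw [← orderOf_dvd_iff_pow_eq_one]
      exact (orderOf_dvd_of_pow_eq_one hn').trans ((Nat.modEq_zero_iff_dvd).1 ht2)
    rw [a1, a2, mul_one]
  refine isConj_iff.2 ⟨c, ?_⟩
  calc c * z * c⁻¹ = c * (z * k) ^ t * c⁻¹ := by rw [e1]
    _ = (c * (z * k) * c⁻¹) ^ t := by rw [conj_pow]
    _ = z' := by rw [hc, e2]

/-- Zeros and `r`-parts. -/
theorem ne_zero_of_not_isConj {χ : IrrCharacter G} {x : G} (h : One χ x) {r : ℕ} (hr : r.Prime)
    {z : G} (hz : orderOf z = r) {m : ℕ} (hm : ¬ r ∣ m) (hnc : ¬ IsConj z (z ^ m)) {k : G}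
    (hzk : Commute z k) (hk : ¬ r ∣ orderOf k) : (χ : G → ℂ) (z * k) ≠ 0 := by
  intro h0
  have hcop : Nat.Coprime r (orderOf k) := (Nat.Prime.coprime_iff_not_dvd hr).2 hk
  -- an exponent `≡ m mod r`, `≡ 1 mod o(k)`
  obtain ⟨j, hj1, hj2⟩ := Nat.chineseRemainder hcop m 1
  have hN : r * orderOf k ∣ Nat.card G :=
    Nat.Coprime.mul_dvd_of_dvd_of_dvd hcop (hz ▸ orderOf_dvd_natCard z) (orderOf_dvd_natCard k)
  have hjc : j.Coprime (r * orderOf k) := by
    refine Nat.Coprime.mul_right ?_ ?_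
    · refine ((Nat.Prime.coprime_iff_not_dvd hr).2 fun hd => hm ?_).symm
      exact (hj1.dvd_iff (dvd_refl r)).1 hd
    · have := hj2.gcd_eq
      rw [Nat.Coprime, this, Nat.gcd_one_left]
  have hNe : NeZero (Nat.card G) := ⟨Nat.card_pos.ne'⟩
  obtain ⟨u, hu⟩ := ZMod.unitsMap_surjective hN (ZMod.unitOfCoprime j hjc)
  set t := (u : ZMod (Nat.card G)).val with ht
  have htc : t.Coprime (Nat.card G) := ZMod.val_coe_unit_coprime u
  have htj : t ≡ j [MOD r * orderOf k] := by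
    rw [← ZMod.natCast_eq_natCast_iff]
    have h1 := congrArg (fun v : (ZMod (r * orderOf k))ˣ => (v : ZMod (r * orderOf k))) hu
    simp only [ZMod.unitsMap_val, ZMod.coe_unitOfCoprime] at h1
    rw [← h1, ht, ZMod.natCast_val]
  -- the Galois conjugate
  obtain ⟨σ, hσ⟩ := GaloisBasic.exists_ringEquiv_of_coprime (G := G) htc
  have h1 : (χ : G → ℂ) ((z * k) ^ t) = 0 := by
    rw [← hσ _ (Core.isIrr_isCharacter χ.2), h0, map_zero]
  have h2 : (z * k) ^ t = z ^ m * k := by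
    rw [hzk.mul_pow]
    have a1 : z ^ t = z ^ m := by
      rw [pow_eq_pow_iff_modEq, hz]
      exact (htj.of_dvd (Dvd.intro _ rfl)).trans hj1
    have a2 : k ^ t = k := by
      conv_rhs => rw [← pow_one k]
      rw [pow_eq_pow_iff_modEq]
      exact (htj.of_dvd (Dvd.intro_left _ rfl)).trans hj2
    rw [a1, a2]
  rw [h2] at h1
  have h3 : IsConj (z * k) (z ^ m * k) := (h.uniq _ h0).symm.trans (h.uniq _ h1)
  refine hnc (isConj_part (r := r) hzk (hzk.pow_left m) (by rw [← hz, pow_orderOf_eq_one]) ?_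
    (pow_orderOf_eq_one k) (pow_orderOf_eq_one k) hcop h3)
  rw [← pow_mul, mul_comm, pow_mul, ← hz, pow_orderOf_eq_one, one_pow]

/-- **K-constancy and the congruence.** -/
theorem cong_kc {p r k : ℕ} (hp : p.Prime) [hr : Fact r.Prime] (hrp : r ≠ p) (R : Sylow r G)
    (hcyc : IsCyclic (R : Subgroup G)) {z : G} (hz : orderOf z = r) (hzR : z ∈ (R : Subgroup G))
    (hC : Subgroup.centralizer ({z} : Set G) ≤ Subgroup.centralizer ((R : Subgroup G) : Set G))
    (K : Subgroup G) (hKC : K ≤ Subgroup.centralizer ((R : Subgroup G) : Set G))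
    (hKr : ¬ r ∣ Nat.card K) (hKp : commutator K = ⊤)
    (hKN : ∀ n ∈ Subgroup.normalizer ((R : Subgroup G) : Set G), ∃ c ∈ K, ∀ k ∈ K,
      n * k * n⁻¹ = c * k * c⁻¹)
    (hpK : ∀ v, Commute z v → (∃ k, orderOf v = p ^ k) → v ∈ K)
    (h2 : ∃ m : ℕ, ¬ r ∣ m ∧ ¬ IsConj z (z ^ m))
    (hk : Nat.card {v : G // Commute z v ∧ ∃ k : ℕ, orderOf v = p ^ k} = p ^ k) :
    Cong p r k G := by
  classical
  have := Fintype.ofFinite G
  refine cong_of_const hp hr.out hrp hz hk fun χ x hx => ⟨not_dvd_of_sylow R hcyc hz hzR hC (Or.inr h2) χ x hx, ?_⟩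
  obtain ⟨m, hm, hnc⟩ := h2
  have hab : (R : Subgroup G) ≤ Subgroup.centralizer ((R : Subgroup G) : Set G) := by
    intro a ha
    rw [Subgroup.mem_centralizer_iff]
    intro b hb
    have h1 : (⟨b, hb⟩ : (R : Subgroup G)) * ⟨a, ha⟩ = ⟨a, ha⟩ * ⟨b, hb⟩ := by
      have := hcyc.commutative
      exact Std.Commutative.comm _ _
    exact congrArg Subtype.val h1
  have hK := H695.OneZero.kconst_perfect (R := R) hab hzR hC K hKC hKr hKp hKN χ (fun k hk => by
    refine ne_zero_of_not_isConj hx hr.out hz hm hnc ?_ ?_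
    · exact (Subgroup.mem_centralizer_iff.1 (hKC hk) z hzR)
    · intro hd
      have h1 := orderOf_dvd_natCard (⟨k, hk⟩ : K)
      rw [Subgroup.orderOf_mk] at h1
      exact hKr (hd.trans h1))
  exact fun v hv hvp => hK v (hpK v hv hvp)

end Cfsg.Agent.H732.VZ
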